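import Cfsg.Agent.Omega.NOne.BetaTwo.DOne
import Cfsg.Agent.Omega.NO1.Beta.End

/-!
# THEOREM BETA for type (γ): steps (2)-(4), abstract (helper914)

`R i` : the points of `V`, `op i j` : opposite points, `QQ (R i) = O₂(N_G(R i))`.  The image of `QQ (R i)`
on `V` is `U' × U''`, given by two additive functions `α, β : QQ (R i) → F`.
Output: `Bp.pre`, the structure `Beta.Pre` of `Beta/End.lean` for a family of pairwise opposite points,
and `Bp.result`.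
-/

set_option autoImplicit false
set_option linter.unusedSectionVars false

namespace Cfsg.Agent.Omega.NO1.BetaPlus

open Subgroup Cfsg
open Cfsg.Agent.ZN (o2 o2_map le_normalizer_o2)
open Cfsg.Agent.Omega.NOne.BetaTwo.DOne (nc le_nc conj_mem_nc nc_le mapnc stab_le)
open Cfsg.Agent.Omega.NOne.BetaTwo.Basic (o2_conj)

universe u

variable {G : Type u} [Group G]

/-- `Q(R) = O₂(N_G(R))` -/
abbrev QQ (R : Subgroup G) : Subgroup G := o2 (normalizer (R : Set G))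

/-- `g` moves `A` to `B` -/
def Mv (g : G) (A B : Subgroup G) : Prop := ∀ x, x ∈ A ↔ g * x * g⁻¹ ∈ B

namespace Mv

variable {g h : G} {A B C D : Subgroup G}

theorem inv (hg : Mv g A B) : Mv g⁻¹ B A := by
  intro x
  have := hg (g⁻¹ * x * g⁻¹⁻¹)
  have e : g * (g⁻¹ * x * g⁻¹⁻¹) * g⁻¹ = x := by group
  rw [e] at this
  exact this.symm

theorem mul (hg : Mv g B C) (hh : Mv h A B) : Mv (g * h) A C := by
  intro x
  rw [hh x, hg (h * x * h⁻¹)]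
  have e : g * (h * x * h⁻¹) * g⁻¹ = g * h * x * (g * h)⁻¹ := by group
  rw [e]

theorem nor (hg : Mv g A B) {c : G} (hc : c ∈ normalizer (A : Set G)) :
    g * c * g⁻¹ ∈ normalizer (B : Set G) := by
  rw [mem_normalizer_iff]
  intro y
  have h1 := hg.inv y
  have h2 := mem_normalizer_iff.1 hc (g⁻¹ * y * g⁻¹⁻¹)
  have h3 := hg (c * (g⁻¹ * y * g⁻¹⁻¹) * c⁻¹)
  have e : g * (c * (g⁻¹ * y * g⁻¹⁻¹) * c⁻¹) * g⁻¹ = g * c * g⁻¹ * y * (g * c * g⁻¹)⁻¹ := by group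
  rw [e] at h3
  exact (h1.trans h2).trans h3

theorem QQ [Finite G] (hg : Mv g A B) : Mv g (BetaPlus.QQ A) (BetaPlus.QQ B) := by
  intro x
  constructor
  · exact fun hx => o2_conj (fun c hc => hg.nor hc) (fun c hc => hg.inv.nor hc) hx
  · intro hx
    have := o2_conj (p := g⁻¹) (fun c hc => hg.inv.nor hc) (fun c hc => by
      rw [inv_inv]; exact hg.nor hc) hx
    have e : g⁻¹ * (g * x * g⁻¹) * g⁻¹⁻¹ = x := by group
    rwa [e] at this

theorem inf (h1 : Mv g A B) (h2 : Mv g C D) : Mv g (A ⊓ C) (B ⊓ D) := by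
  intro x
  rw [mem_inf, mem_inf, h1 x, h2 x]

theorem of_mem (hg : g ∈ A) : Mv g A A := by
  intro x
  exact ⟨fun hx => mul_mem (mul_mem hg hx) (inv_mem hg), fun hx => by
    have := mul_mem (mul_mem (inv_mem hg) hx) hg
    have e : g⁻¹ * (g * x * g⁻¹) * g = x := by group
    rwa [e] at this⟩

theorem of_nor (hg : g ∈ normalizer (A : Set G)) : Mv g A A := mem_normalizer_iff.1 hg

theorem mem_nor (hg : Mv g A A) : g ∈ normalizer (A : Set G) := mem_normalizer_iff.2 hg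

theorem of_comm (hg : ∀ a ∈ A, g * a = a * g) : Mv g A A := by
  intro x
  constructor
  · intro hx
    rw [hg x hx, mul_inv_cancel_right]; exact hx
  · intro hx
    have h1 := hg _ hx
    have h2 : g * x * g⁻¹ = x := by
      have h3 : g * (g * x * g⁻¹) = g * x := by
        rw [h1]; group
      exact mul_left_cancel h3
    rwa [h2] at hx

theorem cen (hg : Mv g A B) : Mv g (centralizer (A : Set G)) (centralizer (B : Set G)) := by
  intro x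
  rw [mem_centralizer_iff, mem_centralizer_iff]
  constructor
  · intro hx b hb
    have h1 : g⁻¹ * b * g⁻¹⁻¹ ∈ A := (hg.inv b).1 hb
    have h2 := hx _ h1
    calc b * (g * x * g⁻¹) = g * ((g⁻¹ * b * g⁻¹⁻¹) * x) * g⁻¹ := by group
      _ = g * (x * (g⁻¹ * b * g⁻¹⁻¹)) * g⁻¹ := by rw [h2]
      _ = g * x * g⁻¹ * b := by group
  · intro hx a ha
    have h1 : g * a * g⁻¹ ∈ B := (hg a).1 ha
    have h2 := hx _ h1
    calc a * x = g⁻¹ * ((g * a * g⁻¹) * (g * x * g⁻¹)) * g := by group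
      _ = g⁻¹ * ((g * x * g⁻¹) * (g * a * g⁻¹)) * g := by rw [h2]
      _ = x * a := by group

end Mv

/-- The input. -/
structure Bp (F : Type) [Field F] (M V : Subgroup G) {I : Type*} (R : I → Subgroup G)
    (op : I → I → Prop) : Prop where
  comm : ∀ a ∈ V, ∀ b ∈ V, a * b = b * a
  sq : ∀ a ∈ V, a * a = 1
  M_V : ∀ m ∈ M, Mv m V V
  R_le : ∀ i, R i ≤ V
  RQ : ∀ i, ∀ r ∈ R i, ∀ y ∈ QQ (R i), r * y = y * r
  ne : ∀ i, R i ≠ ⊥
  cardR : ∀ i, Nat.card (R i) = Nat.card F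
  three : ∃ t : F, t ≠ 0 ∧ t ≠ 1
  disj : ∀ i j, op i j → R i ⊓ R j = ⊥
  symm : ∀ i j, op i j → op j i
  conn : ∀ i k, ∃ c, op i c ∧ op c k
  perm : ∀ m ∈ M, ∀ i, ∃ j, Mv m (R i) (R j)
  tran : ∀ i j k, op i j → op i k → ∃ y ∈ QQ (R i), Mv y (R j) (R k)
  Q_M : ∀ i, QQ (R i) ≤ M
  V_Q : ∀ i, ¬ V ≤ QQ (R i)
  char2 : ∀ i, centralizer (QQ (R i) : Set G) ≤ QQ (R i)
  EQ : ∀ i, ∀ e ∈ V ⊓ QQ (R i), ∀ y ∈ QQ (R i), e⁻¹ * y⁻¹ * e * y ∈ R i
  EQs : ∀ i, ∀ y ∈ QQ (R i), y ∉ centralizer (V : Set G) → ∀ r ∈ R i,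
    ∃ e ∈ V ⊓ QQ (R i), e⁻¹ * y⁻¹ * e * y = r
  cenR : ∀ i, ∀ v ∈ V, (∀ y ∈ QQ (R i), v * y = y * v) → v ∈ R i
  cardE : ∀ i, (centralizer (V : Set G)).relIndex (QQ (R i)) = (R i).relIndex (V ⊓ QQ (R i))
  irr : ∀ i, ∀ N : Subgroup G, N ≤ QQ (R i) → (∀ m ∈ M, Mv m (R i) (R i) → ∀ y ∈ N, m * y * m⁻¹ ∈ N) →
    ¬ N ≤ centralizer (V : Set G) → ∀ y ∈ QQ (R i), ∃ n ∈ N, y⁻¹ * n ∈ centralizer (V : Set G)
  meet : ∀ N : Subgroup G, IsPGroup 2 N → N ≤ M → (∀ m ∈ M, ∀ y ∈ N, m * y * m⁻¹ ∈ N) →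
    N ⊓ V = ⊥ → N = ⊥
  alt : ∀ i j, op i j → ∀ b : G → G, (∀ y ∈ QQ (R i), b y ∈ V ⊓ QQ (R i)) →
    (∀ y ∈ QQ (R i), ∀ y' ∈ QQ (R i), b (y * y') * (b y * b y')⁻¹ ∈ R i) →
    (∀ y ∈ QQ (R i), b y * y = y * b y) →
    (∀ y ∈ QQ (R i), y ∈ centralizer (V : Set G) → b y ∈ R i) →
    ∃ r ∈ R j, ∀ y ∈ QQ (R i), b y * (y⁻¹ * r⁻¹ * y * r)⁻¹ ∈ R i
  half : ∀ i j, op i j → ∃ α β : G → F,
    (∀ y ∈ QQ (R i), ∀ y' ∈ QQ (R i), α (y * y') = α y + α y' ∧ β (y * y') = β y + β y') ∧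
    (∀ y ∈ QQ (R i), y ∈ centralizer (V : Set G) ↔ α y = 0 ∧ β y = 0) ∧
    (∀ a b, ∃ y ∈ QQ (R i), α y = a ∧ β y = b) ∧
    (∀ y ∈ QQ (R i), α y ≠ 0 → β y ≠ 0 → ∃ k, op j k ∧ Mv y (R j) (R k)) ∧
    (∃ s ∈ M, Mv s (R i) (R i) ∧ Mv s (R j) (R j) ∧
      ∀ y ∈ QQ (R i), (α (s * y * s⁻¹) = 0 ↔ β y = 0) ∧ (β (s * y * s⁻¹) = 0 ↔ α y = 0))

namespace Bp

variable {F : Type} [Field F] {M V : Subgroup G} {I : Type*} {R : I → Subgroup G} {op : I → I → Prop}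

/-- `Q* = ⟨(V ∩ Q)^{N(R)}⟩` -/
def S (V R : Subgroup G) : Subgroup G := nc (normalizer (R : Set G)) ((V ⊓ QQ R : Subgroup G) : Set G)

/-- `D = C_Q(Q*)` -/
def D (V R : Subgroup G) : Subgroup G := QQ R ⊓ centralizer (S V R : Set G)

variable [Finite G]

theorem _root_.Cfsg.Agent.Omega.NO1.BetaPlus.Mv.S {g : G} {V A B : Subgroup G} (hV : Mv g V V)
    (hg : Mv g A B) : Mv g (Bp.S V A) (Bp.S V B) := by
  intro x
  constructor
  · intro hx
    exact mapnc (fun c hc => hg.nor hc) (fun y hy => ((hV.inf hg.QQ) y).1 hy) hx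
  · intro hx
    have := mapnc (p := g⁻¹) (fun c hc => hg.inv.nor hc)
      (fun y hy => ((hV.inv.inf hg.inv.QQ) y).1 hy) hx
    have e : g⁻¹ * (g * x * g⁻¹) * g⁻¹⁻¹ = x := by group
    rwa [e] at this

theorem _root_.Cfsg.Agent.Omega.NO1.BetaPlus.Mv.D {g : G} {V A B : Subgroup G} (hV : Mv g V V)
    (hg : Mv g A B) : Mv g (Bp.D V A) (Bp.D V B) := hg.QQ.inf (Mv.S hV hg).cen

theorem S_nor {R : Subgroup G} {c x : G} (hc : c ∈ normalizer (R : Set G)) (hx : x ∈ S V R) :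
    c * x * c⁻¹ ∈ S V R := conj_mem_nc hc hx

theorem Q_nor {R : Subgroup G} {c x : G} (hc : c ∈ normalizer (R : Set G)) (hx : x ∈ QQ R) :
    c * x * c⁻¹ ∈ QQ R := ((Mv.of_nor hc).QQ x).1 hx

theorem S_le {R : Subgroup G} : S V R ≤ QQ R := nc_le fun _ hc _ ha => Q_nor hc ha.2

theorem E_le {R : Subgroup G} : V ⊓ QQ R ≤ S V R := fun _ ha => le_nc _ ha

theorem D_nor {R : Subgroup G} {c x : G} (hc : c ∈ normalizer (R : Set G)) (hx : x ∈ D V R) :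
    c * x * c⁻¹ ∈ D V R := by
  refine ⟨Q_nor hc hx.1, mem_centralizer_iff.2 fun y hy => ?_⟩
  have h1 := S_nor (inv_mem hc) hy
  rw [inv_inv] at h1
  have h2 := mem_centralizer_iff.1 hx.2 _ h1
  calc y * (c * x * c⁻¹) = c * ((c⁻¹ * y * c) * x) * c⁻¹ := by group
    _ = c * (x * (c⁻¹ * y * c)) * c⁻¹ := by rw [h2]
    _ = c * x * c⁻¹ * y := by group

variable (h : Bp F M V R op)
include h

theorem V_cen {v : G} (hv : v ∈ V) : v ∈ centralizer (V : Set G) :=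
  mem_centralizer_iff.2 fun w hw => h.comm w hw v hv

theorem cV_nor (i : I) {c : G} (hc : c ∈ centralizer (V : Set G)) : c ∈ normalizer (R i : Set G) :=
  (Mv.of_comm fun a ha => (mem_centralizer_iff.1 hc a (h.R_le i ha)).symm).mem_nor

theorem R_pgroup (i : I) : IsPGroup 2 (R i) := by
  rintro ⟨x, hx⟩
  refine ⟨1, Subtype.ext ?_⟩
  show x ^ 2 ^ 1 = 1
  rw [pow_one, pow_two]
  exact h.sq x (h.R_le i hx)

theorem R_Q (i : I) : R i ≤ QQ (R i) :=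
  Cfsg.Agent.ZN.le_o2 le_normalizer (h.R_pgroup i) le_rfl

theorem Q_V (i : I) {y : G} (hy : y ∈ QQ (R i)) : Mv y V V := h.M_V y (h.Q_M i hy)

/-- `R i` is central in `QQ (R i)` -/
theorem Q_N (i : I) {y : G} (hy : y ∈ QQ (R i)) : y ∈ normalizer (R i : Set G) :=
  Cfsg.Agent.ZN.o2_le _ hy

theorem SQ (i : I) {n y : G} (hn : n ∈ S V (R i)) (hy : y ∈ QQ (R i)) :
    n⁻¹ * y⁻¹ * n * y ∈ R i := by
  induction hn using closure_induction generalizing y with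
  | mem n hn =>
    obtain ⟨c, hc, e, he, rfl⟩ := hn
    have h1 : c⁻¹ * y * c ∈ QQ (R i) := by
      have := Q_nor (inv_mem hc) hy
      rwa [inv_inv] at this
    have h2 := h.EQ i e he _ h1
    have h3 := (mem_normalizer_iff.1 hc _).1 h2
    have e1 : c * (e⁻¹ * (c⁻¹ * y * c)⁻¹ * e * (c⁻¹ * y * c)) * c⁻¹ =
        (c * e * c⁻¹)⁻¹ * y⁻¹ * (c * e * c⁻¹) * y := by group
    rwa [e1] at h3
  | one =>
    have : (1 : G)⁻¹ * y⁻¹ * 1 * y = 1 := by group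
    rw [this]; exact one_mem _
  | mul a b ha hb iha ihb =>
    have h1 := iha hy
    have h2 := ihb hy
    have h3 := h.RQ i _ h1 b (S_le hb)
    have e1 : (a * b)⁻¹ * y⁻¹ * (a * b) * y = (a⁻¹ * y⁻¹ * a * y) * (b⁻¹ * y⁻¹ * b * y) := by
      calc (a * b)⁻¹ * y⁻¹ * (a * b) * y = b⁻¹ * ((a⁻¹ * y⁻¹ * a * y) * (y⁻¹ * b * y)) := by group
        _ = b⁻¹ * ((a⁻¹ * y⁻¹ * a * y) * b) * (b⁻¹ * y⁻¹ * b * y) := by group
        _ = b⁻¹ * (b * (a⁻¹ * y⁻¹ * a * y)) * (b⁻¹ * y⁻¹ * b * y) := by rw [h3]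
        _ = _ := by group
    rw [e1]
    exact mul_mem h1 h2
  | inv a ha iha =>
    have h1 := iha hy
    have h3 := h.RQ i _ h1 a (S_le ha)
    have e1 : a⁻¹⁻¹ * y⁻¹ * a⁻¹ * y = a * (a⁻¹ * y⁻¹ * a * y)⁻¹ * a⁻¹ := by group
    have e2 : a * (a⁻¹ * y⁻¹ * a * y)⁻¹ * a⁻¹ = (a⁻¹ * y⁻¹ * a * y)⁻¹ := by
      have : a * (a⁻¹ * y⁻¹ * a * y)⁻¹ = (a⁻¹ * y⁻¹ * a * y)⁻¹ * a := by
        rw [eq_inv_mul_iff_mul_eq, ← mul_assoc, h3, mul_inv_cancel_right]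
      rw [this, mul_inv_cancel_right]
    rw [e1, e2]
    exact inv_mem h1

theorem S_sq (i : I) {n : G} (hn : n ∈ S V (R i)) : n * n ∈ R i := by
  induction hn using closure_induction with
  | mem n hn =>
    obtain ⟨c, hc, e, he, rfl⟩ := hn
    have : c * e * c⁻¹ * (c * e * c⁻¹) = c * (e * e) * c⁻¹ := by group
    rw [this, h.sq e he.1, mul_one, mul_inv_cancel]
    exact one_mem _
  | one => rw [one_mul]; exact one_mem _
  | mul a b ha hb iha ihb =>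
    have h1 := h.SQ i hb (S_le ha)
    have h2 := h.RQ i _ h1 b (S_le hb)
    have h3 := h.RQ i _ ihb _ (S_le hb)
    have e1 : a * b * (a * b) = (a * a) * (b * ((b⁻¹ * a⁻¹ * b * a) * b)) := by group
    rw [e1, h2]
    have e2 : b * (b * (b⁻¹ * a⁻¹ * b * a)) = (b * b) * (b⁻¹ * a⁻¹ * b * a) := by group
    rw [e2]
    exact mul_mem iha (mul_mem ihb h1)
  | inv a ha iha =>
    have : a⁻¹ * a⁻¹ = (a * a)⁻¹ := by group
    rw [this]; exact inv_mem iha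

theorem S_not (i : I) : ¬ S V (R i) ≤ centralizer (V : Set G) := by
  intro h1
  apply h.V_Q i
  have hC : normalizer (R i : Set G) ⊓ centralizer (QQ (R i) : Set G) ≤ QQ (R i) :=
    inf_le_right.trans (h.char2 i)
  refine le_trans ?_ (stab_le hC (F := S V (R i)) ?_ ?_)
  · intro v hv
    have hvN := h.cV_nor i (h.V_cen hv)
    refine ⟨hvN, fun f hf => mem_centralizer_iff.1 (h1 hf) v hv, fun q hq => ?_⟩
    refine E_le ⟨?_, ?_⟩
    · have h2 : v * q * v⁻¹ * q⁻¹ = v * (q * v⁻¹ * q⁻¹) := by group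
      rw [h2]
      exact V.mul_mem hv ((h.Q_V i hq _).1 (V.inv_mem hv))
    · exact (QQ (R i)).mul_mem (Q_nor hvN hq) ((QQ (R i)).inv_mem hq)
  · exact (Cfsg.Agent.ZN.isPGroup_o2 _).to_le S_le
  · exact fun c hc f hf => S_nor hc hf

/-- `QQ (R i) = Q* (QQ (R i) ∩ C(V))` -/
theorem cover (i : I) {y : G} (hy : y ∈ QQ (R i)) :
    ∃ n ∈ S V (R i), y⁻¹ * n ∈ centralizer (V : Set G) :=
  h.irr i (S V (R i)) S_le (fun _ _ hmR _ hy => S_nor hmR.mem_nor hy) (h.S_not i) y hy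

/-! ### Step (3) -/

theorem D_V (i : I) {y : G} (hy : y ∈ D V (R i)) : y ∈ centralizer (V : Set G) := by
  by_contra hcon
  obtain ⟨⟨r, hr⟩, hr1⟩ := (ne_bot_iff_exists_ne_one).1 (h.ne i)
  obtain ⟨e, he, hee⟩ := h.EQs i y hy.1 hcon r hr
  have h1 := mem_centralizer_iff.1 hy.2 e (E_le he)
  apply hr1
  apply Subtype.ext
  show r = 1
  rw [← hee]
  calc e⁻¹ * y⁻¹ * e * y = e⁻¹ * y⁻¹ * (e * y) := by group
    _ = e⁻¹ * y⁻¹ * (y * e) := by rw [h1]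
    _ = 1 := by group

theorem V_cS (i : I) {v : G} (hv : v ∈ V) (hc : v ∈ centralizer (S V (R i) : Set G)) : v ∈ R i := by
  refine h.cenR i v hv fun y hy => ?_
  obtain ⟨n, hn, hc'⟩ := h.cover i hy
  have h1 : n * v = v * n := mem_centralizer_iff.1 hc n hn
  have h2 : v * (y⁻¹ * n) = (y⁻¹ * n) * v := mem_centralizer_iff.1 hc' v hv
  have h3 : v * y⁻¹ = y⁻¹ * v := by
    have : v * y⁻¹ * n = y⁻¹ * v * n := by
      rw [mul_assoc v, h2, mul_assoc y⁻¹ v, ← h1, mul_assoc]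
    exact mul_right_cancel this
  calc v * y = y * (y⁻¹ * v) * y := by group
    _ = y * (v * y⁻¹) * y := by rw [h3]
    _ = y * v := by group

/-- `Q*` is transitive on the points opposite to `i`. -/
theorem tranS {i j k : I} (hij : op i j) (hik : op i k) : ∃ n ∈ S V (R i), Mv n (R j) (R k) := by
  obtain ⟨y, hy, hm⟩ := h.tran i j k hij hik
  obtain ⟨n, hn, hc⟩ := h.cover i hy
  refine ⟨n, hn, ?_⟩
  have h1 : Mv (y⁻¹ * n) (R j) (R j) := Mv.of_nor (h.cV_nor j hc)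
  have h2 := hm.mul h1
  have e : y * (y⁻¹ * n) = n := by group
  rwa [e] at h2

theorem D_all {i j : I} (hij : op i j) {x : G} (hi : x ∈ D V (R i)) (hj : x ∈ D V (R j)) (k : I) :
    x ∈ centralizer (S V (R k) : Set G) := by
  have step : ∀ a b c, op a b → op a c → x ∈ centralizer (S V (R a) : Set G) →
      x ∈ centralizer (S V (R b) : Set G) → x ∈ centralizer (S V (R c) : Set G) := by
    intro a b c hab hac ha hb
    obtain ⟨n, hn, hm⟩ := h.tranS hab hac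
    have h1 := (Mv.S (h.Q_V a (S_le hn)) hm).cen x
    have h2 : n * x * n⁻¹ = x := by
      rw [mem_centralizer_iff.1 ha n hn]; group
    rw [h2] at h1
    exact h1.1 hb
  obtain ⟨c, hic, hck⟩ := h.conn i k
  have hc := step i j c hij hic hi.2 hj.2
  exact step c i k (h.symm _ _ hic) hck hc hi.2

theorem D_inf {i j : I} (hij : op i j) {x : G} (hi : x ∈ D V (R i)) (hj : x ∈ D V (R j)) : x = 1 := by
  set B : Subgroup G := o2 (M ⊓ centralizer (V : Set G)) ⊓ ⨅ k, centralizer (S V (R k) : Set G) with hB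
  have hDB : ∀ k, D V (R k) ≤ o2 (M ⊓ centralizer (V : Set G)) := by
    intro k
    refine Cfsg.Agent.ZN.le_o2 (fun d hd => ⟨h.Q_M k hd.1, h.D_V k hd⟩)
      ((Cfsg.Agent.ZN.isPGroup_o2 _).to_le (inf_le_left : D V (R k) ≤ QQ (R k))) ?_
    intro c hc
    have hcN := h.cV_nor k hc.2
    refine Mv.mem_nor fun x => ⟨fun hx => D_nor hcN hx, fun hx => ?_⟩
    have := D_nor (inv_mem hcN) hx
    have e : c⁻¹ * (c * x * c⁻¹) * c⁻¹⁻¹ = x := by group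
    rwa [e] at this
  have hxB : x ∈ B := by
    exact mem_inf.2 ⟨hDB i hi, mem_iInf.2 fun k => h.D_all hij hi hj k⟩
  have hMC : ∀ m ∈ M, Mv m (M ⊓ centralizer (V : Set G)) (M ⊓ centralizer (V : Set G)) := by
    intro m hm
    exact (Mv.of_mem hm).inf (h.M_V m hm).cen
  have hBbot : B = ⊥ := by
    refine h.meet B ((Cfsg.Agent.ZN.isPGroup_o2 _).to_le inf_le_left)
      (inf_le_left.trans ((Cfsg.Agent.ZN.o2_le _).trans inf_le_left)) ?_ ?_
    · intro m hm y hy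
      obtain ⟨hy1, hy2⟩ := mem_inf.1 hy
      rw [mem_iInf] at hy2
      refine mem_inf.2 ⟨o2_conj (fun c hc => (hMC m hm c).1 hc) (fun c hc => ((hMC m hm).inv c).1 hc) hy1,
        mem_iInf.2 fun k => ?_⟩
      obtain ⟨k', hk'⟩ := h.perm m⁻¹ (inv_mem hm) k
      have h1 : Mv m (S V (R k')) (S V (R k)) := by
        have := Mv.S (h.M_V m⁻¹ (inv_mem hm)).inv hk'.inv
        rwa [inv_inv] at this
      exact (h1.cen y).1 (hy2 k')
    · rw [eq_bot_iff]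
      intro v hv
      obtain ⟨hv1, hvV⟩ := mem_inf.1 hv
      have hv2 := mem_iInf.1 (mem_inf.1 hv1).2
      have h1 := h.V_cS i hvV (hv2 i)
      have h2 := h.V_cS j hvV (hv2 j)
      have h3 : v ∈ R i ⊓ R j := ⟨h1, h2⟩
      rwa [h.disj i j hij] at h3
  rw [hBbot] at hxB
  exact mem_bot.1 hxB

theorem D_comm {i j : I} (hij : op i j) {a b : G} (ha : a ∈ D V (R i)) (hb : b ∈ D V (R j)) :
    a * b = b * a := by
  have h1 : a * b * a⁻¹ * b⁻¹ ∈ D V (R j) :=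
    mul_mem (D_nor (h.cV_nor j (h.D_V i ha)) hb) (inv_mem hb)
  have h2 : a * b * a⁻¹ * b⁻¹ ∈ D V (R i) := by
    have : a * b * a⁻¹ * b⁻¹ = a * (b * a⁻¹ * b⁻¹) := by group
    rw [this]
    exact mul_mem ha (D_nor (h.cV_nor i (h.D_V j hb)) (inv_mem ha))
  have h3 := h.D_inf hij h2 h1
  calc a * b = (a * b * a⁻¹ * b⁻¹) * (b * a) := by group
    _ = b * a := by rw [h3, one_mul]

end Bp

end Cfsg.Agent.Omega.NO1.BetaPlus
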