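import Cfsg.Agent.Omega.NO1.BetaPlus.Abs

/-!
# THEOREM BETA for type (γ): step (4), and the structure `Beta.Pre` (helper914)
-/

set_option autoImplicit false
set_option linter.unusedSectionVars false

namespace Cfsg.Agent.Omega.NO1.BetaPlus

open Subgroup Cfsg
open Cfsg.Agent.ZN (o2 o2_map le_normalizer_o2)
open Cfsg.Agent.Omega.NOne.BetaTwo.DOne (nc le_nc conj_mem_nc nc_le mapnc stab_le)

universe u

variable {G : Type u} [Group G] [Finite G]

namespace Bp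

variable {F : Type} [Field F] [Finite F] {M V : Subgroup G} {I : Type*} {R : I → Subgroup G}
  {op : I → I → Prop} (h : Bp F M V R op)
include h

section four

variable {i j : I} (hij : op i j) {α β : G → F}
  (hadd : ∀ y ∈ QQ (R i), ∀ y' ∈ QQ (R i), α (y * y') = α y + α y' ∧ β (y * y') = β y + β y')
  (hker : ∀ y ∈ QQ (R i), y ∈ centralizer (V : Set G) ↔ α y = 0 ∧ β y = 0)
  (hsur : ∀ a b, ∃ y ∈ QQ (R i), α y = a ∧ β y = b)
  (hmov : ∀ y ∈ QQ (R i), α y ≠ 0 → β y ≠ 0 → ∃ k, op j k ∧ Mv y (R j) (R k))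

/-- surjectivity on `Q*` -/
theorem surS (hadd : ∀ y ∈ QQ (R i), ∀ y' ∈ QQ (R i), α (y * y') = α y + α y' ∧ β (y * y') = β y + β y')
    (hker : ∀ y ∈ QQ (R i), y ∈ centralizer (V : Set G) ↔ α y = 0 ∧ β y = 0)
    (hsur : ∀ a b, ∃ y ∈ QQ (R i), α y = a ∧ β y = b) (a b : F) :
    ∃ y ∈ S V (R i), α y = a ∧ β y = b := by
  obtain ⟨y, hy, ha, hb⟩ := hsur a b
  obtain ⟨n, hn, hc⟩ := h.cover i hy
  have h1 := (hker _ (mul_mem (inv_mem hy) (S_le hn))).1 hc
  have h2 := hadd y hy _ (mul_mem (inv_mem hy) (S_le hn))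
  have e : y * (y⁻¹ * n) = n := by group
  rw [e, h1.1, h1.2, add_zero, add_zero] at h2
  exact ⟨n, hn, h2.1.trans ha, h2.2.trans hb⟩

/-- a function which is additive on `S` and onto has kernel of index `|F|` -/
theorem card_ker {S : Subgroup G} {f : G → F} (hf : ∀ y ∈ S, ∀ y' ∈ S, f (y * y') = f y + f y')
    (hs : ∀ a, ∃ y ∈ S, f y = a) (K : Subgroup G) (hK : K ≤ S) (hKf : ∀ y ∈ K, f y = 0)
    {r : ℕ} (hr : Nat.card S ≤ Nat.card K * Nat.card F) {y : G} (hy : y ∈ S) (hy0 : f y = 0) :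
    y ∈ K := by
  let φ : S →* Multiplicative F :=
    { toFun := fun x => Multiplicative.ofAdd (f x)
      map_one' := by
        have := hf 1 (one_mem _) 1 (one_mem _)
        rw [one_mul] at this
        have h0 : f 1 = 0 := left_eq_add.1 this
        rw [OneMemClass.coe_one, h0]; rfl
      map_mul' := fun x z => by
        rw [Subgroup.coe_mul, hf x x.2 z z.2]; rfl }
  have hφ : Function.Surjective φ := by
    intro a
    obtain ⟨y, hy, ha⟩ := hs (Multiplicative.toAdd a)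
    exact ⟨⟨y, hy⟩, by show Multiplicative.ofAdd (f y) = a; rw [ha]; rfl⟩
  have h1 : Nat.card S = Nat.card φ.ker * Nat.card F := by
    have h2 := φ.ker.card_mul_index
    have h3 : φ.ker.index = Nat.card F := by
      rw [index_ker, MonoidHom.range_eq_top.2 hφ]
      exact (Nat.card_congr Subgroup.topEquiv.toEquiv).trans (Nat.card_congr Multiplicative.toAdd)
    rw [h3] at h2
    exact h2.symm
  have hF : 0 < Nat.card F := Nat.card_pos
  have h2 : Nat.card φ.ker ≤ Nat.card K := by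
    rw [h1] at hr
    exact Nat.le_of_mul_le_mul_right hr hF
  have h3 : K.subgroupOf S ≤ φ.ker := by
    intro x hx
    rw [mem_subgroupOf] at hx
    rw [MonoidHom.mem_ker]
    show Multiplicative.ofAdd (f x) = 1
    rw [hKf _ hx]; rfl
  have h4 : Nat.card (K.subgroupOf S) = Nat.card K :=
    Nat.card_congr (subgroupOfEquivOfLe hK).toEquiv
  have h5 : K.subgroupOf S = φ.ker := eq_of_le_of_card_ge h3 (by rw [h4]; exact h2)
  have h6 : (⟨y, hy⟩ : S) ∈ φ.ker := by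
    rw [MonoidHom.mem_ker]
    show Multiplicative.ofAdd (f y) = 1
    rw [hy0]; rfl
  rw [← h5, mem_subgroupOf] at h6
  exact h6

/-- the commutator with `c` has kernel of index at most `|R i|` in `Q*` -/
theorem card_com {c : G} (hc : ∀ y ∈ S V (R i), c⁻¹ * y⁻¹ * c * y ∈ R i) :
    Nat.card (S V (R i)) ≤ Nat.card ↥(S V (R i) ⊓ centralizer ({c} : Set G)) * Nat.card F := by
  let ψ : S V (R i) →* R i :=
    { toFun := fun y => ⟨(y : G)⁻¹ * c⁻¹ * y * c, by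
        have h1 := inv_mem (hc (y : G) y.2)
        have e : (c⁻¹ * (y : G)⁻¹ * c * (y : G))⁻¹ = (y : G)⁻¹ * c⁻¹ * y * c := by group
        rw [e] at h1
        exact h1⟩
      map_one' := by
        apply Subtype.ext
        show ((1 : S V (R i)) : G)⁻¹ * c⁻¹ * ((1 : S V (R i)) : G) * c = 1
        rw [OneMemClass.coe_one]; group
      map_mul' := fun y z => by
        apply Subtype.ext
        show ((y * z : S V (R i)) : G)⁻¹ * c⁻¹ * ((y * z : S V (R i)) : G) * c =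
          ((y : G)⁻¹ * c⁻¹ * y * c) * ((z : G)⁻¹ * c⁻¹ * z * c)
        rw [Subgroup.coe_mul]
        have h3 : (y : G)⁻¹ * c⁻¹ * y * c ∈ R i := by
          have h1 := inv_mem (hc (y : G) y.2)
          have e : (c⁻¹ * (y : G)⁻¹ * c * (y : G))⁻¹ = (y : G)⁻¹ * c⁻¹ * y * c := by group
          rwa [e] at h1
        have h4 := h.RQ i _ h3 z (S_le z.2)
        calc ((y : G) * z)⁻¹ * c⁻¹ * (y * z) * c
            = (z : G)⁻¹ * (((y : G)⁻¹ * c⁻¹ * y * c) * (c⁻¹ * z * c)) := by group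
          _ = (z : G)⁻¹ * (((y : G)⁻¹ * c⁻¹ * y * c) * z) * ((z : G)⁻¹ * c⁻¹ * z * c) := by group
          _ = (z : G)⁻¹ * ((z : G) * ((y : G)⁻¹ * c⁻¹ * y * c)) * ((z : G)⁻¹ * c⁻¹ * z * c) := by rw [h4]
          _ = _ := by group }
  have h1 : Nat.card (S V (R i)) = Nat.card ψ.ker * Nat.card ψ.range := by
    have h2 := ψ.ker.card_mul_index
    rw [index_ker] at h2
    exact h2.symm
  have h2 : Nat.card ψ.range ≤ Nat.card F := by
    rw [← h.cardR i]
    exact Subgroup.card_le_card_group _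
  have h3 : Nat.card ψ.ker = Nat.card ↥(S V (R i) ⊓ centralizer ({c} : Set G)) := by
    have h4 : ψ.ker = (S V (R i) ⊓ centralizer ({c} : Set G)).subgroupOf (S V (R i)) := by
      ext y
      rw [MonoidHom.mem_ker, mem_subgroupOf, mem_inf, mem_centralizer_singleton_iff]
      constructor
      · intro hy
        refine ⟨y.2, ?_⟩
        have h5 : (y : G)⁻¹ * c⁻¹ * y * c = 1 := congrArg Subtype.val hy
        have e : (y : G) * c = c * y * ((y : G)⁻¹ * c⁻¹ * y * c) := by group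
        rw [e, h5, mul_one]
      · rintro ⟨-, hy⟩
        apply Subtype.ext
        show (y : G)⁻¹ * c⁻¹ * y * c = 1
        rw [mul_assoc, hy]; group
    rw [h4]
    exact Nat.card_congr (subgroupOfEquivOfLe inf_le_left).toEquiv
  rw [h1, h3]
  exact Nat.mul_le_mul_left _ h2

include hij hadd hker hsur hmov

/-- an element of `D j` centralised by a `y` with `α y, β y ≠ 0` is `1` -/
theorem eq_one_of_comm {c y : G} (hc : c ∈ D V (R j)) (hy : y ∈ QQ (R i)) (ha : α y ≠ 0)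
    (hb : β y ≠ 0) (hcy : c * y = y * c) : c = 1 := by
  obtain ⟨k, hjk, hm⟩ := hmov y hy ha hb
  refine h.D_inf hjk hc ?_
  have h1 := (Mv.D (h.Q_V i hy) hm c).1 hc
  have h2 : y * c * y⁻¹ = c := by rw [← hcy, mul_inv_cancel_right]
  rwa [h2] at h1

/-- Step (4a), first part. -/
theorem four_a1 {c : G} (hc : c ∈ D V (R j)) (hX : ∀ y ∈ S V (R i), c⁻¹ * y⁻¹ * c * y ∈ R i) :
    (∀ y ∈ S V (R i), α y = 0 → c * y = y * c) ∨ (∀ y ∈ S V (R i), β y = 0 → c * y = y * c) := by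
  by_cases hc1 : c = 1
  · left; intro y _ _; rw [hc1, one_mul, mul_one]
  set K := S V (R i) ⊓ centralizer ({c} : Set G) with hK
  have hKm : ∀ y, y ∈ K ↔ y ∈ S V (R i) ∧ c * y = y * c := by
    intro y
    rw [hK, mem_inf, mem_centralizer_singleton_iff]
    exact and_congr_right fun _ => eq_comm
  have h1 : ∀ y ∈ K, α y = 0 ∨ β y = 0 := by
    intro y hy
    by_contra hcon
    push Not at hcon
    exact hc1 (h.eq_one_of_comm hij hadd hker hsur hmov hc (S_le ((hKm y).1 hy).1) hcon.1 hcon.2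
      ((hKm y).1 hy).2)
  have h2 := h.card_com hX
  have hS : ∀ a b, ∃ y ∈ S V (R i), α y = a ∧ β y = b := h.surS hadd hker hsur
  -- `K` is in one of the two kernels
  have h3 : (∀ y ∈ K, α y = 0) ∨ (∀ y ∈ K, β y = 0) := by
    by_contra hcon
    push Not at hcon
    obtain ⟨⟨y, hy, hya⟩, ⟨z, hz, hzb⟩⟩ := hcon
    have hyb := (h1 y hy).resolve_left hya
    have hza := (h1 z hz).resolve_right hzb
    have h4 := hadd y (S_le ((hKm y).1 hy).1) z (S_le ((hKm z).1 hz).1)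
    rcases h1 _ (mul_mem hy hz) with h5 | h5
    · rw [h4.1, hza, add_zero] at h5; exact hya h5
    · rw [h4.2, hyb, zero_add] at h5; exact hzb h5
  rcases h3 with h3 | h3
  · left
    intro y hy hy0
    have := card_ker h (S := S V (R i)) (f := α)
      (fun y hy y' hy' => (hadd y (S_le hy) y' (S_le hy')).1)
      (fun a => by obtain ⟨y, hy, ha, -⟩ := hS a 0; exact ⟨y, hy, ha⟩) K inf_le_left h3 (r := 0) h2 hy hy0
    exact ((hKm y).1 this).2
  · right
    intro y hy hy0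
    have := card_ker h (S := S V (R i)) (f := β)
      (fun y hy y' hy' => (hadd y (S_le hy) y' (S_le hy')).2)
      (fun a => by obtain ⟨y, hy, -, ha⟩ := hS 0 a; exact ⟨y, hy, ha⟩) K inf_le_left h3 (r := 0) h2 hy hy0
    exact ((hKm y).1 this).2

/-- Step (4a). -/
theorem four_a {s : G} (hs : s ∈ M) (hsi : Mv s (R i) (R i)) (hsj : Mv s (R j) (R j))
    (hsw : ∀ y ∈ QQ (R i), (α (s * y * s⁻¹) = 0 ↔ β y = 0) ∧ (β (s * y * s⁻¹) = 0 ↔ α y = 0))
    {c : G} (hc : c ∈ D V (R j)) (hX : ∀ y ∈ S V (R i), c⁻¹ * y⁻¹ * c * y ∈ R i) : c = 1 := by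
  have hS : ∀ a b, ∃ y ∈ S V (R i), α y = a ∧ β y = b := h.surS hadd hker hsur
  -- the group `X`
  have hmul : ∀ c c' : G, c ∈ D V (R j) → (∀ y ∈ S V (R i), c⁻¹ * y⁻¹ * c * y ∈ R i) →
      c' ∈ D V (R j) → (∀ y ∈ S V (R i), c'⁻¹ * y⁻¹ * c' * y ∈ R i) →
      ∀ y ∈ S V (R i), (c * c')⁻¹ * y⁻¹ * (c * c') * y ∈ R i := by
    intro c c' hc hX hc' hX' y hy
    have h1 := hX y hy
    have h2 := hX' y hy
    have h3 := mem_centralizer_iff.1 (h.D_V j hc') _ (h.R_le i h1)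
    have e : (c * c')⁻¹ * y⁻¹ * (c * c') * y = (c⁻¹ * y⁻¹ * c * y) * (c'⁻¹ * y⁻¹ * c' * y) := by
      calc (c * c')⁻¹ * y⁻¹ * (c * c') * y
          = c'⁻¹ * ((c⁻¹ * y⁻¹ * c * y) * (y⁻¹ * c' * y)) := by group
        _ = c'⁻¹ * ((c⁻¹ * y⁻¹ * c * y) * c') * (c'⁻¹ * y⁻¹ * c' * y) := by group
        _ = c'⁻¹ * (c' * (c⁻¹ * y⁻¹ * c * y)) * (c'⁻¹ * y⁻¹ * c' * y) := by rw [h3]
        _ = _ := by group
    rw [e]
    exact mul_mem h1 h2
  -- one alternative for all elements of `X`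
  have hall : (∀ c ∈ D V (R j), (∀ y ∈ S V (R i), c⁻¹ * y⁻¹ * c * y ∈ R i) →
      ∀ y ∈ S V (R i), α y = 0 → c * y = y * c) ∨
      (∀ c ∈ D V (R j), (∀ y ∈ S V (R i), c⁻¹ * y⁻¹ * c * y ∈ R i) →
      ∀ y ∈ S V (R i), β y = 0 → c * y = y * c) := by
    by_contra hcon
    push Not at hcon
    obtain ⟨⟨c1, hc1, hX1, y1, hy1, ha1, hn1⟩, ⟨c2, hc2, hX2, y2, hy2, hb2, hn2⟩⟩ := hcon
    have k1 := (h.four_a1 hij hadd hker hsur hmov hc1 hX1).resolve_left fun hh => hn1 (hh y1 hy1 ha1)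
    have k2 := (h.four_a1 hij hadd hker hsur hmov hc2 hX2).resolve_right fun hh => hn2 (hh y2 hy2 hb2)
    rcases h.four_a1 hij hadd hker hsur hmov (mul_mem hc1 hc2) (hmul c1 c2 hc1 hX1 hc2 hX2) with k3 | k3
    · apply hn1
      have e1 := k3 y1 hy1 ha1
      have e2 := k2 y1 hy1 ha1
      have : c1 * y1 * c2 = y1 * c1 * c2 := by
        calc c1 * y1 * c2 = c1 * (y1 * c2) := by group
          _ = c1 * (c2 * y1) := by rw [e2]
          _ = c1 * c2 * y1 := by group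
          _ = y1 * (c1 * c2) := e1
          _ = _ := by group
      exact mul_right_cancel this
    · apply hn2
      have e1 := k3 y2 hy2 hb2
      have e2 := k1 y2 hy2 hb2
      have : c1 * (c2 * y2) = c1 * (y2 * c2) := by
        calc c1 * (c2 * y2) = c1 * c2 * y2 := by group
          _ = y2 * (c1 * c2) := e1
          _ = (y2 * c1) * c2 := by group
          _ = (c1 * y2) * c2 := by rw [e2]
          _ = _ := by group
      exact mul_left_cancel this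
  -- conjugation by `s`
  have hsV := h.M_V s hs
  have hsS : Mv s (S V (R i)) (S V (R i)) := Mv.S hsV hsi
  have hsD : Mv s (D V (R j)) (D V (R j)) := Mv.D hsV hsj
  have hcs : s⁻¹ * c * s ∈ D V (R j) := by
    have := (hsD.inv c).1 hc
    rwa [inv_inv] at this
  have hys : ∀ y ∈ S V (R i), s⁻¹ * y * s ∈ S V (R i) := by
    intro y hy
    have := (hsS.inv y).1 hy
    rwa [inv_inv] at this
  have hXs : ∀ y ∈ S V (R i), (s⁻¹ * c * s)⁻¹ * y⁻¹ * (s⁻¹ * c * s) * y ∈ R i := by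
    intro y hy
    have h1 := hX _ ((hsS y).1 hy)
    have h2 := (hsi.inv _).1 h1
    have e : s⁻¹ * (c⁻¹ * (s * y * s⁻¹)⁻¹ * c * (s * y * s⁻¹)) * s⁻¹⁻¹ =
      (s⁻¹ * c * s)⁻¹ * y⁻¹ * (s⁻¹ * c * s) * y := by group
    rwa [e] at h2
  have back : ∀ y, (s⁻¹ * c * s) * (s⁻¹ * y * s) = (s⁻¹ * y * s) * (s⁻¹ * c * s) → c * y = y * c := by
    intro y hy
    calc c * y = s * ((s⁻¹ * c * s) * (s⁻¹ * y * s)) * s⁻¹ := by group
      _ = s * ((s⁻¹ * y * s) * (s⁻¹ * c * s)) * s⁻¹ := by rw [hy]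
      _ = y * c := by group
  have hboth : (∀ y ∈ S V (R i), α y = 0 → c * y = y * c) ∧
      (∀ y ∈ S V (R i), β y = 0 → c * y = y * c) := by
    rcases hall with hall | hall
    · refine ⟨hall c hc hX, fun y hy hb => back y (hall _ hcs hXs _ (hys y hy) ?_)⟩
      have h1 := (hsw _ (S_le (hys y hy))).2
      have e : s * (s⁻¹ * y * s) * s⁻¹ = y := by group
      rw [e] at h1
      exact h1.1 hb
    · refine ⟨fun y hy ha => back y (hall _ hcs hXs _ (hys y hy) ?_), hall c hc hX⟩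
      have h1 := (hsw _ (S_le (hys y hy))).1
      have e : s * (s⁻¹ * y * s) * s⁻¹ = y := by group
      rw [e] at h1
      exact h1.1 ha
  obtain ⟨y, hy, ha, hb⟩ := hS 1 1
  obtain ⟨z, hz, hza, hzb⟩ := hS 0 1
  have hzy : β (z⁻¹ * y) = 0 := by
    have h1 := (hadd z (S_le hz) _ (mul_mem (inv_mem (S_le hz)) (S_le hy))).2
    have e : z * (z⁻¹ * y) = y := by group
    rw [e, hb, hzb] at h1
    exact left_eq_add.1 h1
  have c1 := hboth.1 z hz hza
  have c2 := hboth.2 _ (mul_mem (inv_mem hz) hy) hzy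
  refine h.eq_one_of_comm hij hadd hker hsur hmov hc (S_le hy) (by rw [ha]; exact one_ne_zero)
    (by rw [hb]; exact one_ne_zero) ?_
  calc c * y = (c * z) * (z⁻¹ * y) := by group
    _ = z * (c * (z⁻¹ * y)) := by rw [c1]; group
    _ = z * ((z⁻¹ * y) * c) := by rw [c2]
    _ = y * c := by group

end four

/-- Step (4a), final form. -/
theorem step_a {i j : I} (hij : op i j) {c : G} (hc : c ∈ D V (R j))
    (hX : ∀ y ∈ S V (R i), c⁻¹ * y⁻¹ * c * y ∈ R i) : c = 1 := by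
  obtain ⟨α, β, hadd, hker, hsur, hmov, s, hs, hsi, hsj, hsw⟩ := h.half i j hij
  exact h.four_a hij hadd hker hsur hmov hs hsi hsj hsw hc hX

/-- Step (4b). -/
theorem D_Q {i j : I} (hij : op i j) {d : G} (hd : d ∈ D V (R j)) (hdi : d ∈ QQ (R i)) : d = 1 := by
  refine h.step_a hij hd fun y hy => ?_
  have h1 := inv_mem (h.SQ i hy hdi)
  have e : (y⁻¹ * d⁻¹ * y * d)⁻¹ = d⁻¹ * y⁻¹ * d * y := by group
  rwa [e] at h1

/-- Step (4c). -/
theorem D_c {i j : I} (hij : op i j) {d : G} (hd : d ∈ D V (R j)) {n : G} (hn : n ∈ S V (R i))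
    (hnV : n ∈ centralizer (V : Set G)) : d * n = n * d := by
  have h1 : d * n * d⁻¹ * n⁻¹ ∈ D V (R j) := by
    have : d * n * d⁻¹ * n⁻¹ = d * (n * d⁻¹ * n⁻¹) := by group
    rw [this]
    exact mul_mem hd (D_nor (h.cV_nor j hnV) (inv_mem hd))
  have h2 : d * n * d⁻¹ * n⁻¹ ∈ QQ (R i) :=
    mul_mem (S_le (S_nor (h.cV_nor i (h.D_V j hd)) hn)) (inv_mem (S_le hn))
  have h3 := h.D_Q hij h1 h2
  calc d * n = (d * n * d⁻¹ * n⁻¹) * (n * d) := by group
    _ = n * d := by rw [h3, one_mul]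

/-- Step (4d). -/
theorem D_sq (j : I) {d : G} (hd : d ∈ D V (R j)) : d * d = 1 := by
  obtain ⟨i, hji, -⟩ := h.conn j j
  have hij := h.symm _ _ hji
  obtain ⟨α, β, hadd, hker, hsur, hmov, s, hs, hsi, hsj, hsw⟩ := h.half i j hij
  obtain ⟨t, ht0, ht1⟩ := h.three
  have hS : ∀ a b, ∃ y ∈ S V (R i), α y = a ∧ β y = b := h.surS hadd hker hsur
  have hdV := h.D_V j hd
  have hdN := h.cV_nor i hdV
  have hinv : ∀ y ∈ QQ (R i), (α y ≠ 0 → α y⁻¹ ≠ 0) ∧ (β y ≠ 0 → β y⁻¹ ≠ 0) := by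
    intro y hy
    have h1 := hadd y hy y⁻¹ (inv_mem hy)
    have h0 := (hker 1 (one_mem _)).1 (one_mem _)
    rw [mul_inv_cancel, h0.1, h0.2] at h1
    exact ⟨fun ha hb => ha (by rw [hb, add_zero] at h1; exact h1.1.symm),
      fun ha hb => ha (by rw [hb, add_zero] at h1; exact h1.2.symm)⟩
  -- elements with `α y, β y ≠ 0`
  have step1 : ∀ y ∈ S V (R i), α y ≠ 0 → β y ≠ 0 → (d * d)⁻¹ * y⁻¹ * (d * d) * y ∈ R i := by
    intro y hy ha hb
    have hyQ := S_le hy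
    obtain ⟨k, hjk, hm⟩ := hmov y⁻¹ (inv_mem hyQ) ((hinv y hyQ).1 ha) ((hinv y hyQ).2 hb)
    have hu : y⁻¹ * d * y ∈ D V (R k) := by
      have := (Mv.D (h.Q_V i (inv_mem hyQ)) hm d).1 hd
      rwa [inv_inv] at this
    have hcom := h.D_comm hjk hd hu
    have hcS : d⁻¹ * (y⁻¹ * d * y) ∈ S V (R i) := by
      have e : d⁻¹ * (y⁻¹ * d * y) = (d⁻¹ * y⁻¹ * d⁻¹⁻¹) * y := by group
      rw [e]
      exact mul_mem (S_nor (inv_mem hdN) (inv_mem hy)) hy
    have h1 := h.S_sq i hcS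
    have e : (d * d)⁻¹ * y⁻¹ * (d * d) * y = d⁻¹ * (y⁻¹ * d * y) * (d⁻¹ * (y⁻¹ * d * y)) := by
      have hcom' : d⁻¹ * (y⁻¹ * d * y) = (y⁻¹ * d * y) * d⁻¹ := by
        rw [inv_mul_eq_iff_eq_mul, ← mul_assoc, hcom, mul_inv_cancel_right]
      calc (d * d)⁻¹ * y⁻¹ * (d * d) * y = d⁻¹ * (d⁻¹ * (y⁻¹ * d * y)) * (y⁻¹ * d * y) := by group
        _ = d⁻¹ * ((y⁻¹ * d * y) * d⁻¹) * (y⁻¹ * d * y) := by rw [hcom']
        _ = _ := by group
    rw [e]
    exact h1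
  have step0 : ∀ y ∈ S V (R i), y ∈ centralizer (V : Set G) →
      (d * d)⁻¹ * y⁻¹ * (d * d) * y ∈ R i := by
    intro y hy hyV
    have h1 := h.D_c hij (mul_mem hd hd) hy hyV
    have e : (d * d)⁻¹ * y⁻¹ * (d * d) * y = (d * d)⁻¹ * y⁻¹ * ((d * d) * y) := by group
    rw [e, h1]
    have e2 : (d * d)⁻¹ * y⁻¹ * (y * (d * d)) = 1 := by group
    rw [e2]
    exact one_mem _
  have stepm : ∀ y ∈ S V (R i), ∀ z ∈ S V (R i), (d * d)⁻¹ * y⁻¹ * (d * d) * y ∈ R i →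
      (d * d)⁻¹ * z⁻¹ * (d * d) * z ∈ R i →
      (d * d)⁻¹ * (y * z)⁻¹ * (d * d) * (y * z) ∈ R i := by
    intro y hy z hz h1 h2
    have h3 := h.RQ i _ h1 z (S_le hz)
    have e : (d * d)⁻¹ * (y * z)⁻¹ * (d * d) * (y * z) =
        ((d * d)⁻¹ * z⁻¹ * (d * d) * z) * ((d * d)⁻¹ * y⁻¹ * (d * d) * y) := by
      calc (d * d)⁻¹ * (y * z)⁻¹ * (d * d) * (y * z)
          = ((d * d)⁻¹ * z⁻¹ * (d * d)) * (((d * d)⁻¹ * y⁻¹ * (d * d) * y) * z) := by group
        _ = ((d * d)⁻¹ * z⁻¹ * (d * d)) * (z * ((d * d)⁻¹ * y⁻¹ * (d * d) * y)) := by rw [h3]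
        _ = _ := by group
    rw [e]
    exact mul_mem h2 h1
  refine h.step_a hij (mul_mem hd hd) fun y hy => ?_
  by_cases ha : α y = 0
  · by_cases hb : β y = 0
    · exact step0 y hy ((hker y (S_le hy)).2 ⟨ha, hb⟩)
    · -- `y = z (z⁻¹ y)`, `α z = 1`, `β z = x ≠ 0, β y`
      obtain ⟨x, hx0, hx1⟩ : ∃ x : F, x ≠ 0 ∧ x ≠ β y := by
        by_cases h1 : β y = 1
        · exact ⟨t, ht0, by rw [h1]; exact ht1⟩
        · exact ⟨1, one_ne_zero, fun h2 => h1 h2.symm⟩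
      obtain ⟨z, hz, hza, hzb⟩ := hS 1 x
      have h1 := hadd z (S_le hz) _ (mul_mem (inv_mem (S_le hz)) (S_le hy))
      have e : z * (z⁻¹ * y) = y := by group
      rw [e, hza, hzb, ha] at h1
      have h2 := stepm z hz (z⁻¹ * y) (mul_mem (inv_mem hz) hy)
        (step1 z hz (by rw [hza]; exact one_ne_zero) (by rw [hzb]; exact hx0))
        (step1 _ (mul_mem (inv_mem hz) hy)
          (fun h3 => by rw [h3, add_zero] at h1; exact one_ne_zero h1.1.symm)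
          (fun h3 => by rw [h3, add_zero] at h1; exact hx1 h1.2.symm))
      rwa [e] at h2
  · by_cases hb : β y = 0
    · obtain ⟨x, hx0, hx1⟩ : ∃ x : F, x ≠ 0 ∧ x ≠ α y := by
        by_cases h1 : α y = 1
        · exact ⟨t, ht0, by rw [h1]; exact ht1⟩
        · exact ⟨1, one_ne_zero, fun h2 => h1 h2.symm⟩
      obtain ⟨z, hz, hza, hzb⟩ := hS x 1
      have h1 := hadd z (S_le hz) _ (mul_mem (inv_mem (S_le hz)) (S_le hy))
      have e : z * (z⁻¹ * y) = y := by group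
      rw [e, hza, hzb, hb] at h1
      have h2 := stepm z hz (z⁻¹ * y) (mul_mem (inv_mem hz) hy)
        (step1 z hz (by rw [hza]; exact hx0) (by rw [hzb]; exact one_ne_zero))
        (step1 _ (mul_mem (inv_mem hz) hy)
          (fun h3 => by rw [h3, add_zero] at h1; exact hx1 h1.1.symm)
          (fun h3 => by rw [h3, add_zero] at h1; exact one_ne_zero h1.2.symm))
      rwa [e] at h2
    · exact step1 y hy ha hb

/-! ### The structure `Beta.Pre` -/

/-- `Beta.Pre` for a family of pairwise opposite points, `D_k` given. -/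
theorem pre_of {J : Type*} (ι : J → I) (hι : ∀ a b, a ≠ b → op (ι a) (ι b))
    (hk : ∀ i j : J, i ≠ j → ∀ d ∈ QQ (R (ι j)) ⊓ centralizer (S V (R (ι j)) : Set G),
      ∀ y ∈ S V (R (ι i)), (y⁻¹ * d⁻¹ * y * d) * (y⁻¹ * d⁻¹ * y * d) = 1) :
    Beta.Pre V (fun a => R (ι a)) (fun a => QQ (R (ι a))) (fun a => S V (R (ι a))) where
  V_comm := h.comm
  V_sq := h.sq
  R_le a := h.R_le _
  R_Q a := h.R_Q _
  RQ a := h.RQ _
  ne a := h.ne _
  two a := Cfsg.Agent.ZN.isPGroup_o2 _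
  Q_V a y hy := (h.Q_V _ hy).mem_nor
  nor a c hc y hy := Q_nor hc hy
  max a N hN hle hn := Cfsg.Agent.ZN.le_o2 hle hN fun c hc => by
    refine Mv.mem_nor fun x => ⟨fun hx => hn c hc x hx, fun hx => ?_⟩
    have := hn c⁻¹ (inv_mem hc) _ hx
    have e : c⁻¹ * (c * x * c⁻¹) * c⁻¹⁻¹ = x := by group
    rwa [e] at this
  char2 a := h.char2 _
  EQs a := h.EQs _
  cenR a := h.cenR _
  cardE a := h.cardE _
  alt a b hab := h.alt _ _ (hι a b hab)
  S_cen a y hy := by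
    rw [S, nc, centralizer_closure, mem_centralizer_iff]
    rintro _ ⟨c, hc, e, he, rfl⟩
    exact hy c hc e he
  S_nor a c hc n hn := S_nor hc hn
  S_le a := S_le
  E_le a := E_le
  SQ a n hn y hy := h.SQ _ hn hy
  S_sq a n hn := h.S_sq _ hn
  cover a y hy := h.cover _ hy
  D_V a y hy := h.D_V _ hy
  D_comm a b hab x hx y hy := h.D_comm (hι a b hab) hx hy
  D_Q a b hab d hd hdi := h.D_Q (hι a b hab) hd hdi
  D_c a b hab d hd n hn hnV := h.D_c (hι a b hab) hd hn hnV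
  D_sq a d hd := h.D_sq _ hd
  D_k := hk

/-- `Beta.Pre` for one point. -/
theorem pre1 (i : I) : Beta.Pre V (fun _ : Unit => R i) (fun _ => QQ (R i)) (fun _ => S V (R i)) :=
  h.pre_of (fun _ : Unit => i) (fun a b hab => absurd rfl hab) (fun a b hab => absurd rfl hab)

/-- `D_k` (helper410's form of (6)). -/
theorem D_k {i j : I} (hij : op i j) {d : G} (hd : d ∈ D V (R j)) {y : G} (hy : y ∈ S V (R i)) :
    (y⁻¹ * d⁻¹ * y * d) * (y⁻¹ * d⁻¹ * y * d) = 1 := by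
  have hdV := h.D_V j hd
  have hdN := h.cV_nor i hdV
  set k := y⁻¹ * d⁻¹ * y * d with hk
  have hks : k ∈ S V (R i) := by
    have e : k = y⁻¹ * (d⁻¹ * y * d⁻¹⁻¹) := by rw [hk]; group
    rw [e]
    exact mul_mem (inv_mem hy) (S_nor (inv_mem hdN) hy)
  -- `k` commutes with `S ∩ C(V)`
  have hkc : ∀ c ∈ S V (R i), c ∈ centralizer (V : Set G) → k * c = c * k := by
    intro c hc hcV
    have h1 : y⁻¹ * c⁻¹ * y * c ∈ R i := h.SQ i hy (S_le hc)
    have h2 := mem_centralizer_iff.1 hdV _ (h.R_le i h1)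
    have h3 := h.D_c hij hd hc hcV
    have h4 := h.RQ i _ h1 _ (S_le hks)
    have h5 : y⁻¹ * c⁻¹ * y * c = (y * k)⁻¹ * c⁻¹ * (y * k) * c := by
      have e1 : y⁻¹ * c⁻¹ * y * c = d⁻¹ * (y⁻¹ * c⁻¹ * y * c) * d := by
        rw [mul_assoc d⁻¹, h2]; group
      have e2 : d⁻¹ * c * d = c := by
        rw [mul_assoc, ← h3]; group
      have e3 : y * k = d⁻¹ * y * d := by rw [hk]; group
      have e4 : d⁻¹ * (y⁻¹ * c⁻¹ * y * c) * d =
          (d⁻¹ * y * d)⁻¹ * (d⁻¹ * c * d)⁻¹ * (d⁻¹ * y * d) * (d⁻¹ * c * d) := by group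
      rw [e1, e4, e2, e3]
    have h6 : (y * k)⁻¹ * c⁻¹ * (y * k) * c =
        (y⁻¹ * c⁻¹ * y * c) * (k⁻¹ * c⁻¹ * k * c) := by
      calc (y * k)⁻¹ * c⁻¹ * (y * k) * c
          = k⁻¹ * ((y⁻¹ * c⁻¹ * y * c) * (c⁻¹ * k * c)) := by group
        _ = k⁻¹ * ((y⁻¹ * c⁻¹ * y * c) * k * (k⁻¹ * c⁻¹ * k * c)) := by group
        _ = k⁻¹ * (k * (y⁻¹ * c⁻¹ * y * c) * (k⁻¹ * c⁻¹ * k * c)) := by rw [h4]
        _ = _ := by group
    rw [h6] at h5
    have h7 : k⁻¹ * c⁻¹ * k * c = 1 := by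
      have := h5.symm
      rwa [mul_eq_left] at this
    have h8 : k * c = c * k * (k⁻¹ * c⁻¹ * k * c) := by group
    rw [h8, h7, mul_one]
  obtain ⟨e, he, hec⟩ := (h.pre1 i).F_le (i := ()) hks hkc
  have heS : e ∈ S V (R i) := E_le he
  have heD : e⁻¹ * k ∈ D V (R i) := ⟨S_le (mul_mem (inv_mem heS) hks), hec⟩
  have h1 := h.D_sq i heD
  have h2 := mem_centralizer_iff.1 hec e heS
  calc k * k = e * ((e⁻¹ * k) * e) * (e⁻¹ * k) := by group
    _ = e * (e * (e⁻¹ * k)) * (e⁻¹ * k) := by rw [← h2]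
    _ = (e * e) * ((e⁻¹ * k) * (e⁻¹ * k)) := by group
    _ = 1 := by rw [h1, h.sq e he.1, one_mul]

/-- `Beta.Pre` for a family of pairwise opposite points. -/
theorem pre {J : Type*} (ι : J → I) (hι : ∀ a b, a ≠ b → op (ι a) (ι b)) :
    Beta.Pre V (fun a => R (ι a)) (fun a => QQ (R (ι a))) (fun a => S V (R (ι a))) :=
  h.pre_of ι hι fun a b hab _ hd _ hy => h.D_k (hι a b hab) hd hy

/-- **THEOREM BETA for type (γ)**: `Q = O₂(N_G(R))` is semi-extraspecial with centre `R`. -/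
theorem result (i : I) : QQ (R i) = S V (R i) ∧
    QQ (R i) ⊓ centralizer (QQ (R i) : Set G) = R i ∧
    (∀ x ∈ QQ (R i), ∀ y ∈ QQ (R i), x⁻¹ * y⁻¹ * x * y ∈ R i) ∧ (∀ x ∈ QQ (R i), x * x ∈ R i) ∧
    (∀ y ∈ QQ (R i), y ∉ R i → ∀ r ∈ R i, ∃ n ∈ QQ (R i), n⁻¹ * y⁻¹ * n * y = r) := by
  obtain ⟨j, hij, -⟩ := h.conn i i
  have hji := h.symm _ _ hij
  have hp := h.pre (J := Bool) (fun b => if b then i else j) (by
    intro a b hab
    cases a <;> cases b <;> simp_all)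
  exact hp.result (fun b => ⟨!b, by cases b <;> simp⟩) true

/-- `D = R` -/
theorem D_eq (i : I) : D V (R i) = R i := by
  obtain ⟨h1, h2, -⟩ := h.result i
  have e : D V (R i) = QQ (R i) ⊓ centralizer (S V (R i) : Set G) := rfl
  rw [e, ← h1, h2]

end Bp

end Cfsg.Agent.Omega.NO1.BetaPlus
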