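import Cfsg.Agent.Omega.NO1.Beta.Meet

/-!
# `Q i ⊓ Q j ≤ V` for opposite points, type (γ) (helper914; helper198's proof of `Beta/Meet.lean` with `op`)
-/

set_option autoImplicit false
set_option linter.unusedSectionVars false

namespace Cfsg.Agent.Omega.NO1.BetaPlus

open Subgroup
open Cfsg.Agent.Omega.NO1.Beta.Meet (cj mem_cj conj_mem_cj cj_mul cj_inj cj_eq_of_comm cj_eq_of_mem
  mem_normalizer_of_cj cj_of_mem_normalizer exists_of_fpf swap_abs swap_abs')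

variable {G : Type*} [Group G] {I : Type*}

/-- The output of THEOREM BETA for type (γ), `op` = opposite. -/
structure Mo (V : Subgroup G) (R Q : I → Subgroup G) (op : I → I → Prop) : Prop where
  comm : ∀ a ∈ V, ∀ b ∈ V, a * b = b * a
  R_le : ∀ i, R i ≤ V
  R_Q : ∀ i, R i ≤ Q i
  RQ : ∀ i, ∀ r ∈ R i, ∀ y ∈ Q i, r * y = y * r
  QQ : ∀ i, ∀ y ∈ Q i, ∀ z ∈ Q i, y * z * y⁻¹ * z⁻¹ ∈ R i
  Qsq : ∀ i, ∀ y ∈ Q i, y * y ∈ R i
  cen : ∀ i, ∀ y ∈ Q i, (∀ z ∈ Q i, y * z = z * y) → y ∈ R i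
  Q_V : ∀ i, Q i ≤ normalizer (V : Set G)
  nor : ∀ i, ∀ c ∈ normalizer (R i : Set G), cj c (Q i) = Q i
  symm : ∀ {i j}, op i j → op j i
  conn : ∀ i k, ∃ c, op i c ∧ op c k
  fixj : ∀ i j, op i j → ∀ y ∈ Q i, cj y (R j) = R j → y ∈ centralizer (V : Set G)
  move : ∀ {k l}, op k l → ∀ {y}, y ∈ Q k → ∃ m, op k m ∧ cj y (R l) = R m ∧ cj y (Q l) = Q m
  Q_of_R : ∀ {k l m y}, y ∈ Q k → cj y (R l) = R m → cj y (Q l) = Q m
  tran : ∀ i j k, op i j → op i k → ∃ y ∈ Q i, cj y (R j) = R k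
  RQj : ∀ i j, op i j → R i ⊓ Q j = ⊥
  VE : ∀ i j, op i j → V ≤ (V ⊓ Q i) ⊔ R j

namespace Mo

variable {V : Subgroup G} {R Q : I → Subgroup G} {op : I → I → Prop} (M : Mo V R Q op)
include M

theorem V_le_C : V ≤ centralizer (V : Set G) := fun v hv => by
  rw [mem_centralizer_iff]
  intro w hw
  exact M.comm w hw v hv

theorem C_nor (i : I) {c : G} (hc : c ∈ centralizer (V : Set G)) : cj c (Q i) = Q i := by
  apply M.nor
  apply mem_normalizer_of_cj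
  apply cj_eq_of_comm
  intro x hx
  exact ((mem_centralizer_iff.mp hc) x (M.R_le i hx)).symm

theorem C_conj (i : I) {c x : G} (hc : c ∈ centralizer (V : Set G)) (hx : x ∈ Q i) : c * x * c⁻¹ ∈ Q i := by
  have := conj_mem_cj (c := c) hx
  rwa [M.C_nor i hc] at this

theorem Q_cent {i : I} {y : G} (hy : y ∈ Q i) {c : G} (hc : c ∈ centralizer (V : Set G)) :
    y * c * y⁻¹ ∈ centralizer (V : Set G) := by
  rw [mem_centralizer_iff] at hc ⊢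
  intro v hv
  have h1 : y⁻¹ * v * y ∈ V := by
    have := (mem_normalizer_iff.mp ((normalizer (V : Set G)).inv_mem (M.Q_V i hy)) v).mp hv
    rwa [inv_inv] at this
  have h2 := hc _ h1
  calc v * (y * c * y⁻¹) = y * ((y⁻¹ * v * y) * c) * y⁻¹ := by group
    _ = y * (c * (y⁻¹ * v * y)) * y⁻¹ := by rw [h2]
    _ = y * c * y⁻¹ * v := by group

theorem Q_V' {i : I} {y v : G} (hy : y ∈ Q i) (hv : v ∈ V) : y * v * y⁻¹ ∈ V :=
  (mem_normalizer_iff.mp (M.Q_V i hy) v).mp hv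

theorem RQ' (i : I) {y : G} (hy : y ∈ Q i) : cj y (R i) = R i :=
  cj_eq_of_comm fun x hx => (M.RQ i x hx y hy).symm

/-- `Q k ⊓ Q l` centralises `V` -/
theorem meet_le_C {k l : I} (h : op k l) {f : G} (hk : f ∈ Q k) (hl : f ∈ Q l) :
    f ∈ centralizer (V : Set G) := M.fixj k l h f hk (M.RQ' l hl)

/-- elements of `(Q k ⊓ Q l) V` -/
theorem mem_FF {k l : I} (h : op k l) {x : G} :
    x ∈ (Q k ⊓ Q l) ⊔ V ↔ ∃ f ∈ Q k ⊓ Q l, ∃ v ∈ V, f * v = x := by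
  have hn : Q k ⊓ Q l ≤ normalizer (V : Set G) := fun f hf => M.Q_V k hf.1
  have := Subgroup.coe_mul_of_left_le_normalizer_right (Q k ⊓ Q l) V hn
  rw [← SetLike.mem_coe, this, Set.mem_mul]
  rfl

theorem FF_le {k l m : I} (hl : op k l) (hm : op k m) : (Q k ⊓ Q m) ⊔ V ≤ (Q k ⊓ Q l) ⊔ V := by
  rw [sup_le_iff]
  refine ⟨?_, le_sup_right⟩
  intro f hf
  obtain ⟨y, hy, hyR⟩ := M.tran k l m hl hm
  have hyQ := M.Q_of_R hy hyR
  have h1 : y⁻¹ * f * y ∈ Q l := by rw [← mem_cj, hyQ]; exact hf.2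
  have h2 : y⁻¹ * f * y ∈ Q k := (Q k).mul_mem ((Q k).mul_mem ((Q k).inv_mem hy) hf.1) hy
  have h3 := M.QQ k _ hy _ h2
  rw [M.mem_FF hl]
  refine ⟨y⁻¹ * f * y, ⟨h2, h1⟩, _, M.R_le k h3, ?_⟩
  rw [← M.RQ k _ h3 _ h2]
  group

/-- the group `(Q k ⊓ Q l) V` does not depend on `k ≠ l` -/
theorem FF_all {i j k l : I} (h : op i j) (h' : op k l) : (Q k ⊓ Q l) ⊔ V ≤ (Q i ⊓ Q j) ⊔ V := by
  obtain ⟨c, hkc, hci⟩ := M.conn k i
  calc (Q k ⊓ Q l) ⊔ V ≤ (Q k ⊓ Q c) ⊔ V := M.FF_le hkc h'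
    _ = (Q c ⊓ Q k) ⊔ V := by rw [inf_comm]
    _ ≤ (Q c ⊓ Q i) ⊔ V := M.FF_le hci (M.symm hkc)
    _ = (Q i ⊓ Q c) ⊔ V := by rw [inf_comm]
    _ ≤ (Q i ⊓ Q j) ⊔ V := M.FF_le h (M.symm hci)

theorem FF_eq {i j k l : I} (h : op i j) (h' : op k l) : (Q k ⊓ Q l) ⊔ V = (Q i ⊓ Q j) ⊔ V :=
  le_antisymm (M.FF_all h h') (M.FF_all h' h)

/-- every `Q k` normalises `W := (Q i ⊓ Q j) V`, and acts trivially on `W / V` -/
theorem Q_W {i j : I} (h : op i j) {k : I} {y w : G} (hy : y ∈ Q k) (hw : w ∈ (Q i ⊓ Q j) ⊔ V) :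
    y * w * y⁻¹ * w⁻¹ ∈ V := by
  obtain ⟨l, hl, -⟩ := M.conn k k
  rw [← M.FF_eq h hl, M.mem_FF hl] at hw
  obtain ⟨f, hf, v, hv, rfl⟩ := hw
  have h1 := M.QQ k _ hy _ hf.1
  have hfC := M.meet_le_C hl hf.1 hf.2
  have h2 := M.Q_V' hy hv
  have h3 : (y * f * y⁻¹ * f⁻¹) * (f * ((y * v * y⁻¹) * v⁻¹) * f⁻¹) ∈ V := by
    refine V.mul_mem (M.R_le k h1) ?_
    have h4 : (y * v * y⁻¹) * v⁻¹ ∈ V := V.mul_mem h2 (V.inv_mem hv)
    have h5 := (mem_centralizer_iff.mp hfC) _ h4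
    rw [← h5, mul_assoc, mul_inv_cancel, mul_one]
    exact h4
  have h6 : y * (f * v) * y⁻¹ * (f * v)⁻¹ = (y * f * y⁻¹ * f⁻¹) * (f * ((y * v * y⁻¹) * v⁻¹) * f⁻¹) := by
    group
  rw [h6]; exact h3

theorem Q_W' {i j : I} (h : op i j) {k : I} {y w : G} (hy : y ∈ Q k) (hw : w ∈ (Q i ⊓ Q j) ⊔ V) :
    y * w * y⁻¹ ∈ (Q i ⊓ Q j) ⊔ V := by
  have h1 : V ≤ (Q i ⊓ Q j) ⊔ V := le_sup_right
  have h2 := mul_mem (h1 (M.Q_W h hy hw)) hw
  have h3 : y * w * y⁻¹ * w⁻¹ * w = y * w * y⁻¹ := by group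
  rwa [h3] at h2

/-- `y ∈ Q k`, `b ∈ Q l ⊓ C(V)`: `[y, b] ∈ Q k ⊓ C(V)` -/
theorem comm_mem {k l : I} {y b : G} (hy : y ∈ Q k) (hb : b ∈ Q l) (hbC : b ∈ centralizer (V : Set G)) :
    y * b * y⁻¹ * b⁻¹ ∈ Q k ∧ y * b * y⁻¹ * b⁻¹ ∈ centralizer (V : Set G) := by
  constructor
  · have h1 := M.C_conj k hbC ((Q k).inv_mem hy)
    have h2 : y * b * y⁻¹ * b⁻¹ = y * (b * y⁻¹ * b⁻¹) := by group
    rw [h2]
    exact (Q k).mul_mem hy h1
  · exact mul_mem (M.Q_cent hy hbC) (inv_mem hbC)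

/-- two elements of the `Q k ⊓ C(V)` commute modulo `W` -/
theorem comm_AA {i j : I} (h : op i j) {k l : I} (hkl : op k l) {a b : G} (ha : a ∈ Q k) (haC : a ∈ centralizer (V : Set G))
    (hb : b ∈ Q l) (hbC : b ∈ centralizer (V : Set G)) : a * b * a⁻¹ * b⁻¹ ∈ (Q i ⊓ Q j) ⊔ V := by
  have h1 := (M.comm_mem ha hb hbC).1
  have h2 : a * b * a⁻¹ * b⁻¹ ∈ Q l := (Q l).mul_mem (M.C_conj l haC hb) ((Q l).inv_mem hb)
  rw [← M.FF_eq h hkl]
  exact mem_sup_left (mem_inf.mpr ⟨h1, h2⟩)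

/-- **the spread**: an element of `Q k ⊓ C(V)` which is congruent to an element of `Q l ⊓ C(V)` modulo `W` lies in
`W` -/
theorem spread {i j : I} (h : op i j) {k l : I} (hkl : op k l) {c b : G} (hc : c ∈ Q k) (hb : b ∈ Q l)
    (hw : b⁻¹ * c ∈ (Q i ⊓ Q j) ⊔ V) : c ∈ (Q i ⊓ Q j) ⊔ V := by
  rw [← M.FF_eq h hkl] at hw ⊢
  rw [M.mem_FF hkl] at hw
  obtain ⟨f, hf, v, hv, hfv⟩ := hw
  have h1 : v ∈ (V ⊓ Q k) ⊔ R l := M.VE k l hkl hv
  have hn : V ⊓ Q k ≤ normalizer (R l : Set G) := by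
    intro x hx
    apply mem_normalizer_of_cj
    apply cj_eq_of_comm
    intro r hr
    exact M.comm x hx.1 r (M.R_le l hr)
  rw [← SetLike.mem_coe, Subgroup.coe_mul_of_left_le_normalizer_right _ _ hn, Set.mem_mul] at h1
  obtain ⟨e, he, r, hr, rfl⟩ := h1
  have he' : e ∈ V ⊓ Q k := he
  have hr' : r ∈ R l := hr
  have her : e * r = r * e := M.comm e he'.1 r (M.R_le l hr')
  have h2 : c * e⁻¹ = b * f * r := by
    have : c = b * (f * (e * r)) := by rw [hfv]; group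
    rw [this, her]; group
  have h3 : c * e⁻¹ ∈ Q k ⊓ Q l := by
    refine mem_inf.mpr ⟨(Q k).mul_mem hc ((Q k).inv_mem he'.2), ?_⟩
    rw [h2]
    exact (Q l).mul_mem ((Q l).mul_mem hb hf.2) (M.R_Q l hr')
  rw [M.mem_FF hkl]
  exact ⟨_, h3, e, he'.1, by group⟩

/-! ### matching elements -/

/-- `y ∈ Q i`, `y' ∈ Q j` and `y : j ↦ l`, `y' : i ↦ l`. For `a ∈ Q i ⊓ C(V)`, `b := [y', a]`: `[y, b] ≡ a` modulo `W`. -/
theorem match_comm {i j : I} (h : op i j) {y y' : G} (hy : y ∈ Q i) (hy' : y' ∈ Q j)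
    (hm : cj y (R j) = cj y' (R i)) {a : G} (ha : a ∈ Q i) (haC : a ∈ centralizer (V : Set G)) :
    y * (y' * a * y'⁻¹ * a⁻¹) * y⁻¹ * (y' * a * y'⁻¹ * a⁻¹)⁻¹ * a⁻¹ ∈ (Q i ⊓ Q j) ⊔ V := by
  obtain ⟨l, hl, hlR, hlQ⟩ := M.move h hy
  have hlQ' : cj y' (Q i) = Q l := M.Q_of_R hy' (hm.symm.trans hlR)
  set b := y' * a * y'⁻¹ * a⁻¹ with hbdef
  obtain ⟨hb, hbC⟩ := M.comm_mem hy' ha haC
  obtain ⟨ha2, ha2C⟩ := M.comm_mem hy hb hbC
  set a2 := y * b * y⁻¹ * b⁻¹ with ha2def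
  -- `b a = y' a y'⁻¹ ∈ Q l`, `a2 b = y b y⁻¹ ∈ Q l`
  have h1 : b * a ∈ Q l := by
    have : b * a = y' * a * y'⁻¹ := by rw [hbdef]; group
    rw [this, ← hlQ']; exact conj_mem_cj ha
  have h2 : a2 * b ∈ Q l := by
    have : a2 * b = y * b * y⁻¹ := by rw [ha2def]; group
    rw [this, ← hlQ]; exact conj_mem_cj hb
  have h3 : (a2 * b) * (b * a)⁻¹ ∈ Q l := mul_mem h2 (inv_mem h1)
  -- `(a2 b) (b a)⁻¹ = a2 b a⁻¹ b⁻¹`
  have h4 := M.comm_AA h (M.symm h) hb hbC ha haC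
  have h5 : a2 * a⁻¹ ∈ Q i := mul_mem ha2 (inv_mem ha)
  have h6 : ((a2 * b) * (b * a)⁻¹)⁻¹ * (a2 * a⁻¹) ∈ (Q i ⊓ Q j) ⊔ V := by
    have : ((a2 * b) * (b * a)⁻¹)⁻¹ * (a2 * a⁻¹) = b * a * b⁻¹ * a⁻¹ := by group
    rw [this]
    exact h4
  exact M.spread h hl h5 h3 h6

/-- an element of `Q i` that moves `R j` acts without fixed points on `(Q j ⊓ C(V)) W / W` -/
theorem fpf_one {i j : I} (h : op i j) {y : G} (hy : y ∈ Q i) (hmv : ∃ k, op j k ∧ cj y (R j) = R k)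
    {b : G} (hb : b ∈ Q j)
    (hf : y * b * y⁻¹ * b⁻¹ ∈ (Q i ⊓ Q j) ⊔ V) : b ∈ (Q i ⊓ Q j) ⊔ V := by
  obtain ⟨m, hmj, hmR⟩ := hmv
  have hmQ := M.Q_of_R hy hmR
  have h1 : y * b * y⁻¹ ∈ Q m := by rw [← hmQ]; exact conj_mem_cj hb
  have hbi : b ∈ Q j := hb
  refine M.spread h hmj hb h1 ?_
  -- `(y b y⁻¹)⁻¹ b = (y b y⁻¹)⁻¹ [y, b]⁻¹ (y b y⁻¹)`
  have h2 : (y * b * y⁻¹)⁻¹ * b = b⁻¹ * (y * b * y⁻¹ * b⁻¹)⁻¹ * b := by group
  rw [h2]
  have h3 := M.Q_W' h (inv_mem hb) (inv_mem hf)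
  rwa [inv_inv] at h3

end Mo

/-- A torus element `t = (y y' y)(z z' z)`, `y, z ∈ Q i`, `y', z' ∈ Q j`. -/
structure ToO (V : Subgroup G) (R Q : I → Subgroup G) (op : I → I → Prop) (i j : I) (y y' z z' : G) : Prop where
  hy : y ∈ Q i
  hz : z ∈ Q i
  hy' : y' ∈ Q j
  hz' : z' ∈ Q j
  ym : cj y (R j) = cj y' (R i)
  zm : cj z (R j) = cj z' (R i)
  ne : ∃ k, op j k ∧ cj (z⁻¹ * y) (R j) = R k
  /-- `t` centralises `R i` -/
  tR : ∀ r ∈ R i, (y * y' * y) * (z * z' * z) * r = r * ((y * y' * y) * (z * z' * z))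
  /-- `t` is fixed point free on `(V ⊓ Q i) / R i` -/
  tE : ∀ e ∈ V ⊓ Q i, e⁻¹ * ((y * y' * y) * (z * z' * z) * e * ((y * y' * y) * (z * z' * z))⁻¹) ∈ R i → e ∈ R i
  /-- `t` is fixed point free on `Q i / (Q i ⊓ C(V))` -/
  tU : ∀ u ∈ Q i, u⁻¹ * ((y * y' * y) * (z * z' * z) * u * ((y * y' * y) * (z * z' * z))⁻¹) ∈
    centralizer (V : Set G) → u ∈ centralizer (V : Set G)

namespace Mo

variable {V : Subgroup G} {R Q : I → Subgroup G} {op : I → I → Prop} (M : Mo V R Q op)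
include M

/-- `n = y y' y` interchanges `Q i` and `Q j`, and induces `a ↦ [y', a]` on `(Q i ⊓ C(V)) W / W` -/
theorem swap {i j : I} (h : op i j) {y y' : G} (hy : y ∈ Q i) (hy' : y' ∈ Q j)
    (hm : cj y (R j) = cj y' (R i)) : cj (y * y' * y) (Q i) = Q j ∧ cj (y * y' * y) (Q j) = Q i ∧
      cj (y * y' * y) (R i) = R j ∧ cj (y * y' * y) (R j) = R i := by
  obtain ⟨l, hl, hlR, hlQ⟩ := M.move h hy
  have hlR' : cj y' (R i) = R l := hm.symm.trans hlR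
  have hlQ' : cj y' (Q i) = Q l := M.Q_of_R hy' hlR'
  -- `y R l = R j`, as `y² ∈ R i ≤ V`
  have hyy : y * y ∈ V := M.R_le i (M.Qsq i y hy)
  have hyyC := M.V_le_C hyy
  have hyyR : ∀ k, cj (y * y) (R k) = R k := fun k => cj_eq_of_comm fun x hx => M.comm _ hyy _ (M.R_le k hx)
  have hyyQ : ∀ k, cj (y * y) (Q k) = Q k := fun k => M.C_nor k hyyC
  have hyy' : y' * y' ∈ V := M.R_le j (M.Qsq j y' hy')
  have hyyR' : ∀ k, cj (y' * y') (R k) = R k := fun k => cj_eq_of_comm fun x hx => M.comm _ hyy' _ (M.R_le k hx)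
  have hyyQ' : ∀ k, cj (y' * y') (Q k) = Q k := fun k => M.C_nor k (M.V_le_C hyy')
  have h1 : cj y (Q l) = Q j := by rw [← hlQ, ← cj_mul]; exact hyyQ j
  have h2 : cj y (R l) = R j := by rw [← hlR, ← cj_mul]; exact hyyR j
  have h3 : cj y' (Q l) = Q i := by rw [← hlQ', ← cj_mul]; exact hyyQ' i
  have h4 : cj y' (R l) = R i := by rw [← hlR', ← cj_mul]; exact hyyR' i
  refine ⟨?_, ?_, ?_, ?_⟩
  · rw [cj_mul, cj_mul, cj_eq_of_mem hy, hlQ', h1]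
  · rw [cj_mul, cj_mul, hlQ, h3, cj_eq_of_mem hy]
  · rw [cj_mul, cj_mul, M.RQ' i hy, hlR', h2]
  · rw [cj_mul, cj_mul, hlR, h4, M.RQ' i hy]

theorem mem_nor_W {i j : I} (h : op i j) {k : I} {y : G} (hy : y ∈ Q k) :
    y ∈ normalizer (((Q i ⊓ Q j) ⊔ V : Subgroup G) : Set G) := by
  rw [mem_normalizer_iff]
  intro w
  constructor
  · exact fun hw => M.Q_W' h hy hw
  · intro hw
    have h1 := M.Q_W' h ((Q k).inv_mem hy) hw
    have h2 : y⁻¹ * (y * w * y⁻¹) * y⁻¹⁻¹ = w := by group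
    rwa [h2] at h1

end Mo

namespace Mo

variable {V : Subgroup G} {R Q : I → Subgroup G} {op : I → I → Prop} (M : Mo V R Q op)
include M

/-- `t` acts without fixed points on `(Q i ⊓ C(V)) W / W` -/
theorem tor_fpf {i j : I} (h : op i j) {y y' z z' : G} (T : ToO V R Q op i j y y' z z') {a : G} (ha : a ∈ Q i)
    (haC : a ∈ centralizer (V : Set G))
    (hf : (y * y' * y) * (z * z' * z) * a * ((y * y' * y) * (z * z' * z))⁻¹ * a⁻¹ ∈ (Q i ⊓ Q j) ⊔ V) :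
    a ∈ (Q i ⊓ Q j) ⊔ V := by
  set W : Subgroup G := (Q i ⊓ Q j) ⊔ V with hW
  let N : Subgroup G := normalizer (W : Set G)
  let N' : Subgroup ↥N := W.subgroupOf N
  have hVW : V ≤ W := le_sup_right
  have hRW : ∀ k, R k ≤ W := fun k => (M.R_le k).trans hVW
  have hN'n : N'.Normal := Subgroup.normal_subgroupOf_of_le_normalizer le_rfl
  have hQN : ∀ {k : I} {x : G}, x ∈ Q k → x ∈ N := fun {k x} hx => M.mem_nor_W h hx
  let q : ↥N →* ↥N ⧸ N' := QuotientGroup.mk' N'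
  have key : ∀ x x' : ↥N, (x : G) * (x' : G)⁻¹ ∈ W → q x = q x' := by
    intro x x' hx
    have h1 : q (x * x'⁻¹) = 1 := by
      have : (x * x'⁻¹) ∈ N' := by
        rw [mem_subgroupOf]; exact hx
      exact (QuotientGroup.eq_one_iff _).mpr this
    rw [map_mul, map_inv] at h1
    exact mul_inv_eq_one.mp h1
  have key' : ∀ x x' : ↥N, q x = q x' → (x : G) * (x' : G)⁻¹ ∈ W := by
    intro x x' hx
    have h1 : q (x * x'⁻¹) = 1 := by rw [map_mul, map_inv, hx, mul_inv_cancel]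
    have h2 := (QuotientGroup.eq_one_iff _).mp h1
    rw [mem_subgroupOf] at h2
    exact h2
  -- the elements
  obtain ⟨hb, hbC⟩ := M.comm_mem T.hz' ha haC
  set b := z' * a * z'⁻¹ * a⁻¹ with hbdef
  obtain ⟨ha3, ha3C⟩ := M.comm_mem T.hy hb hbC
  set a3 := y * b * y⁻¹ * b⁻¹ with ha3def
  have hm1 := M.match_comm h T.hz T.hz' T.zm ha haC
  rw [← hbdef] at hm1
  have hm2 := M.match_comm (M.symm h) T.hy' T.hy T.ym.symm hb hbC
  rw [← ha3def, inf_comm (Q j) (Q i)] at hm2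
  let Y : ↥N := ⟨y, hQN T.hy⟩
  let Y' : ↥N := ⟨y', hQN T.hy'⟩
  let Z : ↥N := ⟨z, hQN T.hz⟩
  let Z' : ↥N := ⟨z', hQN T.hz'⟩
  let A : ↥N := ⟨a, hQN ha⟩
  let B : ↥N := ⟨b, hQN hb⟩
  let A3 : ↥N := ⟨a3, hQN ha3⟩
  have e1 : q Z * q A = q A * q Z := by
    rw [← map_mul, ← map_mul]
    apply key
    have : (z * a) * (a * z)⁻¹ = z * a * z⁻¹ * a⁻¹ := by group
    change (z * a) * (a * z)⁻¹ ∈ W
    rw [this]; exact hRW i (M.QQ i z T.hz a ha)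
  have e2 : q Z' * q A = q B * q A * q Z' := by
    rw [← map_mul, ← map_mul, ← map_mul]
    apply congrArg
    apply Subtype.ext
    change z' * a = b * a * z'
    rw [hbdef]; group
  have e4 : q A * q B = q B * q A := by
    rw [← map_mul, ← map_mul]
    apply key
    have : (a * b) * (b * a)⁻¹ = a * b * a⁻¹ * b⁻¹ := by group
    change (a * b) * (b * a)⁻¹ ∈ W
    rw [this]; exact M.comm_AA h h ha haC hb hbC
  have e5 : q A * q A = 1 := by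
    rw [← map_mul, ← map_one q]
    apply key
    change (a * a) * (1 : G)⁻¹ ∈ W
    rw [inv_one, mul_one]; exact hRW i (M.Qsq i a ha)
  have e3 : q Z * q B = q A * q B * q Z := by
    rw [← map_mul, ← map_mul, ← map_mul]
    apply key
    have : (z * b) * (a * b * z)⁻¹ = a * (a⁻¹ * (z * b * z⁻¹ * b⁻¹ * a⁻¹) * a⁻¹⁻¹) * a⁻¹ := by group
    change (z * b) * (a * b * z)⁻¹ ∈ W
    rw [this]
    exact M.Q_W' h ha (M.Q_W' h (inv_mem ha) hm1)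
  have r1 := swap_abs e1 e2 e3 e4 e5
  have f1 : q Y * q B = q A3 * q B * q Y := by
    rw [← map_mul, ← map_mul, ← map_mul]
    apply congrArg
    apply Subtype.ext
    change y * b = a3 * b * y
    rw [ha3def]; group
  have f2 : q Y' * q A3 = q B * q A3 * q Y' := by
    rw [← map_mul, ← map_mul, ← map_mul]
    apply key
    have : (y' * a3) * (b * a3 * y')⁻¹ = y' * a3 * y'⁻¹ * a3⁻¹ * b⁻¹ := by group
    change (y' * a3) * (b * a3 * y')⁻¹ ∈ W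
    rw [this]
    exact hm2
  have f3 : q Y' * q B = q B * q Y' := by
    rw [← map_mul, ← map_mul]
    apply key
    have : (y' * b) * (b * y')⁻¹ = y' * b * y'⁻¹ * b⁻¹ := by group
    change (y' * b) * (b * y')⁻¹ ∈ W
    rw [this]; exact hRW j (M.QQ j y' T.hy' b hb)
  have f4 : q A3 * q B = q B * q A3 := by
    rw [← map_mul, ← map_mul]
    apply key
    have : (a3 * b) * (b * a3)⁻¹ = a3 * b * a3⁻¹ * b⁻¹ := by group
    change (a3 * b) * (b * a3)⁻¹ ∈ W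
    rw [this]; exact M.comm_AA h h ha3 ha3C hb hbC
  have f5 : q B * q B = 1 := by
    rw [← map_mul, ← map_one q]
    apply key
    change (b * b) * (1 : G)⁻¹ ∈ W
    rw [inv_one, mul_one]; exact hRW j (M.Qsq j b hb)
  have f6 : q Y * q A3 = q A3 * q Y := by
    rw [← map_mul, ← map_mul]
    apply key
    have : (y * a3) * (a3 * y)⁻¹ = y * a3 * y⁻¹ * a3⁻¹ := by group
    change (y * a3) * (a3 * y)⁻¹ ∈ W
    rw [this]; exact hRW i (M.QQ i y T.hy a3 ha3)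
  have r2 := swap_abs' f1 f2 f3 f4 f5 f6
  -- `t a t⁻¹ ≡ a3`
  have r3 : q A3 = q A := by
    have g1 : q (((Y * Y' * Y) * (Z * Z' * Z)) * A * ((Y * Y' * Y) * (Z * Z' * Z))⁻¹) = q A := key _ _ hf
    have g2 : (q Y * q Y' * q Y) * (q Z * q Z' * q Z) * q A =
        q A3 * ((q Y * q Y' * q Y) * (q Z * q Z' * q Z)) := by
      rw [mul_assoc, r1, ← mul_assoc, r2, mul_assoc]
    rw [map_mul, map_mul, map_mul, map_mul, map_mul, map_mul, map_mul, map_inv, map_mul, map_mul, map_mul,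
      map_mul, map_mul, g2, mul_inv_cancel_right] at g1
    exact g1
  -- `[y, b] ≡ [z, b]`
  have r4 : q Y * q B * (q Y)⁻¹ = q Z * q B * (q Z)⁻¹ := by
    rw [f1, e3, r3]; group
  have hyz : z⁻¹ * y ∈ Q i := mul_mem (inv_mem T.hz) T.hy
  have hbW : b ∈ W := by
    apply M.fpf_one h hyz T.ne hb
    have g1 : q ((Z⁻¹ * Y) * B * (Z⁻¹ * Y)⁻¹) = q B := by
      have : (q Z)⁻¹ * (q Y * q B * (q Y)⁻¹) * q Z = q B := by rw [r4]; group
      rw [← this]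
      simp only [map_mul, map_inv]
      group
    exact key' _ _ g1
  -- `a ≡ [z, b] ≡ 1`
  have hB1 : q B = 1 := by
    rw [← map_one q]
    apply key
    change b * (1 : G)⁻¹ ∈ W
    rw [inv_one, mul_one]; exact hbW
  have hA1 : q A = 1 := by
    rw [hB1, mul_one, mul_one] at e3
    have : q A * q Z = 1 * q Z := by rw [one_mul]; exact e3.symm
    exact mul_right_cancel this
  have := key' A 1 (by rw [hA1, map_one])
  change a * (1 : G)⁻¹ ∈ W at this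
  rwa [inv_one, mul_one] at this

/-- the elements of `⟨Q i, Q j⟩` act trivially on `W / V` -/
theorem triv_mul {W : Subgroup G} (hVW : V ≤ W) {x x' : G} (hx : ∀ w ∈ W, x * w * x⁻¹ * w⁻¹ ∈ V)
    (hx' : ∀ w ∈ W, x' * w * x'⁻¹ * w⁻¹ ∈ V) : ∀ w ∈ W, (x * x') * w * (x * x')⁻¹ * w⁻¹ ∈ V := by
  have _ := M.comm
  intro w hw
  have h1 := hx' w hw
  have h2 : x' * w * x'⁻¹ ∈ W := by
    have := W.mul_mem (hVW h1) hw
    have h3 : x' * w * x'⁻¹ * w⁻¹ * w = x' * w * x'⁻¹ := by group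
    rwa [h3] at this
  have h4 := hx _ h2
  have h5 : (x * x') * w * (x * x')⁻¹ * w⁻¹ =
      (x * (x' * w * x'⁻¹) * x⁻¹ * (x' * w * x'⁻¹)⁻¹) * (x' * w * x'⁻¹ * w⁻¹) := by group
  rw [h5]
  exact V.mul_mem h4 h1

/-- **`Q i ⊓ Q j ≤ V`** -/
theorem meet_le [Finite G] {i j : I} (h : op i j) {y y' z z' : G} (T : ToO V R Q op i j y y' z z') :
    Q i ⊓ Q j ≤ V := by
  set W : Subgroup G := (Q i ⊓ Q j) ⊔ V with hW
  set t : G := (y * y' * y) * (z * z' * z) with ht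
  have hVW : V ≤ W := le_sup_right
  obtain ⟨s1, s2, -, -⟩ := M.swap h T.hy T.hy' T.ym
  obtain ⟨s3, s4, -, -⟩ := M.swap h T.hz T.hz' T.zm
  have tQi : cj t (Q i) = Q i := by rw [ht, cj_mul, s3, s2]
  have tQj : cj t (Q j) = Q j := by rw [ht, cj_mul, s4, s1]
  have tQi' : ∀ u ∈ Q i, t * u * t⁻¹ ∈ Q i := fun u hu => by
    have := conj_mem_cj (c := t) hu
    rwa [tQi] at this
  have tQj' : ∀ u ∈ Q j, t * u * t⁻¹ ∈ Q j := fun u hu => by
    have := conj_mem_cj (c := t) hu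
    rwa [tQj] at this
  have tV : t ∈ normalizer (V : Set G) := by
    have a1 := M.Q_V i T.hy
    have a2 := M.Q_V j T.hy'
    have a3 := M.Q_V i T.hz
    have a4 := M.Q_V j T.hz'
    exact mul_mem (mul_mem (mul_mem a1 a2) a1) (mul_mem (mul_mem a3 a4) a3)
  have tV' : ∀ v ∈ V, t * v * t⁻¹ ∈ V := fun v hv => (mem_normalizer_iff.mp tV v).mp hv
  have tC' : ∀ c ∈ centralizer (V : Set G), t * c * t⁻¹ ∈ centralizer (V : Set G) := by
    intro c hc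
    rw [mem_centralizer_iff] at hc ⊢
    intro v hv
    have h1 : t⁻¹ * v * t ∈ V := by
      have := (mem_normalizer_iff.mp ((normalizer (V : Set G)).inv_mem tV) v).mp hv
      rwa [inv_inv] at this
    have h2 := hc _ h1
    calc v * (t * c * t⁻¹) = t * ((t⁻¹ * v * t) * c) * t⁻¹ := by group
      _ = t * (c * (t⁻¹ * v * t)) * t⁻¹ := by rw [h2]
      _ = t * c * t⁻¹ * v := by group
  have tW : ∀ w ∈ W, t * w * t⁻¹ * w⁻¹ ∈ V := by
    have b1 : ∀ w ∈ W, y * w * y⁻¹ * w⁻¹ ∈ V := fun w hw => M.Q_W h T.hy hw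
    have b2 : ∀ w ∈ W, y' * w * y'⁻¹ * w⁻¹ ∈ V := fun w hw => M.Q_W h T.hy' hw
    have b3 : ∀ w ∈ W, z * w * z⁻¹ * w⁻¹ ∈ V := fun w hw => M.Q_W h T.hz hw
    have b4 : ∀ w ∈ W, z' * w * z'⁻¹ * w⁻¹ ∈ V := fun w hw => M.Q_W h T.hz' hw
    exact M.triv_mul hVW (M.triv_mul hVW (M.triv_mul hVW b1 b2) b1)
      (M.triv_mul hVW (M.triv_mul hVW b3 b4) b3)
  have tR' : ∀ r ∈ R i, t * r * t⁻¹ = r := fun r hr => by
    have h0 : t * r = r * t := T.tR r hr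
    rw [h0, mul_inv_cancel_right]
  -- `F := Q i ⊓ Q j` is abelian
  have hRQ : ∀ r ∈ R i, r ∈ Q j → r = 1 := fun r h1 h2 => by
    have : r ∈ R i ⊓ Q j := mem_inf.mpr ⟨h1, h2⟩
    rw [M.RQj i j h, mem_bot] at this
    exact this
  have hFab : ∀ f ∈ Q i ⊓ Q j, ∀ f' ∈ Q i ⊓ Q j, f * f' = f' * f := by
    intro f hf f' hf'
    have h1 := M.QQ i f hf.1 f' hf'.1
    have h2 := M.RQ j
    have h3 : f * f' * f⁻¹ * f'⁻¹ ∈ Q j :=
      (Q j).mul_mem ((Q j).mul_mem ((Q j).mul_mem hf.2 hf'.2) ((Q j).inv_mem hf.2)) ((Q j).inv_mem hf'.2)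
    have h4 := hRQ _ h1 h3
    have h5 : f * f' = (f * f' * f⁻¹ * f'⁻¹) * (f' * f) := by group
    rw [h5, h4, one_mul]
  -- fixed points of `t` on `F`
  have hfix : ∀ c ∈ Q i ⊓ Q j, t * c * t⁻¹ = c → c = 1 := by
    intro c hc hct
    let Kc : Subgroup G := centralizer ({c} : Set G)
    have memK : ∀ u, c * u = u * c → u ∈ Kc := fun u hu => mem_centralizer_singleton_iff.mpr (by
      first | exact hu | exact hu.symm)
    have hRK : ∀ r ∈ R i, r ∈ Kc := fun r hr => memK r (M.RQ i r hr c hc.1).symm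
    have hFK : ∀ f ∈ Q i ⊓ Q j, f ∈ Kc := fun f hf => memK f (hFab c hc f hf)
    have hD : ∀ u ∈ Q i, u⁻¹ * (t * u * t⁻¹) ∈ Kc := by
      intro u hu
      have h1 := M.QQ i c hc.1 u hu
      have h2 := tR' _ h1
      have h3 : c * (t * u * t⁻¹) * c⁻¹ = (c * u * c⁻¹ * u⁻¹) * (t * u * t⁻¹) := by
        have e1 : t * (c * u * c⁻¹ * u⁻¹) * t⁻¹ =
            (t * c * t⁻¹) * (t * u * t⁻¹) * (t * c * t⁻¹)⁻¹ * (t * u * t⁻¹)⁻¹ := by group
        rw [e1, hct] at h2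
        rw [← h2]; group
      apply memK
      have h4 : c * (u⁻¹ * (t * u * t⁻¹)) * c⁻¹ = u⁻¹ * (t * u * t⁻¹) := by
        have e2 : c * (u⁻¹ * (t * u * t⁻¹)) * c⁻¹ = (c * u * c⁻¹)⁻¹ * (c * (t * u * t⁻¹) * c⁻¹) := by group
        rw [e2, h3]; group
      calc c * (u⁻¹ * (t * u * t⁻¹)) = (c * (u⁻¹ * (t * u * t⁻¹)) * c⁻¹) * c := by group
        _ = u⁻¹ * (t * u * t⁻¹) * c := by rw [h4]
    -- (i)
    have hE : ∀ e ∈ V ⊓ Q i, e ∈ Kc := by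
      intro e he
      obtain ⟨g, hg, n, hn, rfl⟩ := exists_of_fpf (H := V ⊓ Q i) (N := R i) t
        (fun x hx => mem_inf.mpr ⟨tV' x hx.1, tQi' x hx.2⟩) (fun x hx => by rw [tR' x hx]; exact hx)
        (fun x hx n hn => by
          rw [M.comm x hx.1 n (M.R_le i hn), mul_inv_cancel_right]; exact hn) T.tE e he
      exact Kc.mul_mem (hD g hg.2) (hRK n hn)
    -- (ii)
    have hA : ∀ a ∈ Q i ⊓ centralizer (V : Set G), a ∈ Kc := by
      intro a ha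
      obtain ⟨g, hg, n, hn, rfl⟩ := exists_of_fpf (H := Q i ⊓ centralizer (V : Set G))
        (N := (Q i ⊓ centralizer (V : Set G)) ⊓ W) t
        (fun x hx => mem_inf.mpr ⟨tQi' x hx.1, tC' x hx.2⟩)
        (fun x hx => mem_inf.mpr ⟨mem_inf.mpr ⟨tQi' x hx.1.1, tC' x hx.1.2⟩, by
          have h1 := tW x hx.2
          have h2 : t * x * t⁻¹ = (t * x * t⁻¹ * x⁻¹) * x := by group
          rw [h2]; exact W.mul_mem (hVW h1) hx.2⟩)
        (fun x hx n hn => mem_inf.mpr ⟨mem_inf.mpr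
          ⟨(Q i).mul_mem ((Q i).mul_mem hx.1 hn.1.1) ((Q i).inv_mem hx.1),
            mul_mem (mul_mem hx.2 hn.1.2) (inv_mem hx.2)⟩, M.Q_W' h hx.1 hn.2⟩)
        (fun x hx hn => mem_inf.mpr ⟨hx, by
          apply M.tor_fpf h T hx.1 hx.2
          have h1 := M.Q_W' h hx.1 hn.2
          have h2 : x * (x⁻¹ * (t * x * t⁻¹)) * x⁻¹ = t * x * t⁻¹ * x⁻¹ := by group
          rw [h2] at h1
          exact h1⟩) a ha
      refine Kc.mul_mem (hD g hg.1) ?_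
      obtain ⟨f, hf, v, hv, rfl⟩ := (M.mem_FF h).mp hn.2
      have h3 : v ∈ Q i := by
        have h4 := (Q i).mul_mem ((Q i).inv_mem hf.1) hn.1.1
        rwa [inv_mul_cancel_left] at h4
      exact Kc.mul_mem (hFK f hf) (hE v (mem_inf.mpr ⟨hv, h3⟩))
    -- (iii)
    have hQ : ∀ u ∈ Q i, u ∈ Kc := by
      intro u hu
      obtain ⟨g, hg, n, hn, rfl⟩ := exists_of_fpf (H := Q i) (N := Q i ⊓ centralizer (V : Set G)) t
        tQi' (fun x hx => mem_inf.mpr ⟨tQi' x hx.1, tC' x hx.2⟩)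
        (fun x hx n hn => mem_inf.mpr ⟨(Q i).mul_mem ((Q i).mul_mem hx hn.1) ((Q i).inv_mem hx),
          M.Q_cent hx hn.2⟩)
        (fun x hx hn => mem_inf.mpr ⟨hx, T.tU x hx hn.2⟩) u hu
      exact Kc.mul_mem (hD g hg) (hA n hn)
    refine hRQ c (M.cen i c hc.1 fun u hu => ?_) hc.2
    have := mem_centralizer_singleton_iff.mp (hQ u hu)
    first | exact this | exact this.symm
  -- `F = [F, t] ≤ V`
  intro f hf
  have hfV : ∀ g ∈ Q i ⊓ Q j, g⁻¹ * (t * g * t⁻¹) ∈ V := by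
    intro g hg
    have h1 := tW g (mem_sup_left hg)
    have h2 := M.meet_le_C h hg.1 hg.2
    have h3 : g⁻¹ * (t * g * t⁻¹) = g⁻¹ * (t * g * t⁻¹ * g⁻¹) * g := by group
    rw [h3, mul_assoc, (mem_centralizer_iff.mp h2) _ h1, inv_mul_cancel_left]
    exact h1
  obtain ⟨g, hg, n, hn, rfl⟩ := exists_of_fpf (H := Q i ⊓ Q j) (N := ⊥) t
    (fun x hx => mem_inf.mpr ⟨tQi' x hx.1, tQj' x hx.2⟩)
    (fun x hx => by rw [mem_bot] at hx ⊢; rw [hx]; group)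
    (fun x _ n hn => by rw [mem_bot] at hn ⊢; rw [hn]; group)
    (fun x hx hn => by
      rw [mem_bot] at hn ⊢
      exact hfix x hx (by
        have := inv_mul_eq_one.mp hn
        exact this.symm)) f hf
  rw [mem_bot] at hn
  rw [hn, mul_one]
  exact hfV g hg


end Mo

end Cfsg.Agent.Omega.NO1.BetaPlus
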